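import Groth.Agent.Lib.FibH1_18.Local
import Mathlib.RingTheory.Flat.EquationalCriterion
import Mathlib.RingTheory.Nakayama

/-!
# A map to a flat algebra which is bijective on a fibre is bijective near it
-/

set_option autoImplicit false
set_option maxHeartbeats 1000000

universe u

open TensorProduct

namespace Groth.Agent.Contr18

open Groth.Agent.FibH1_18

variable {R A B : Type u} [CommRing R] [CommRing A] [CommRing B] [Algebra R A] [Algebra R B] [Algebra A B]
  [IsScalarTower R A B]

/-- Elements of a finite module, all killed outside a prime up to `p`, are killed outside the prime. -/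
theorem exists_notMem_smul_eq_zero {M : Type u} [AddCommGroup M] [Module A M] [Module.Finite A M] (q : Ideal A)
    [q.IsPrime] (J : Ideal A) (hJ : J ≤ q) (h : ∀ m : M, ∃ s ∉ q, s • m ∈ J • (⊤ : Submodule A M)) :
    ∃ g ∉ q, ∀ m : M, g • m = 0 := by
  classical
  obtain ⟨G, hG⟩ := Module.finite_def.1 (inferInstance : Module.Finite A M)
  choose s hs hsm using h
  let S := ∏ c ∈ G, s c
  have hS : S ∉ q := fun hm => by
    obtain ⟨c, -, hc⟩ := ‹q.IsPrime›.prod_mem_iff.1 hm
    exact hs c hc
  have hrange : LinearMap.range (algebraMap A (Module.End A M) S) ≤ J • ⊤ := by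
    rw [LinearMap.range_eq_map, ← hG, Submodule.map_span_le]
    intro c hc
    rw [hG]
    change S • c ∈ _
    rw [show S = (∏ d ∈ G.erase c, s d) * s c from (Finset.prod_erase_mul G s hc).symm, mul_smul]
    exact Submodule.smul_mem _ _ (hsm c)
  obtain ⟨P, hPm, -, hPc, hP⟩ :=
    LinearMap.exists_monic_and_natDegree_eq_and_coeff_mem_pow_and_aeval_eq_zero A
      (algebraMap A (Module.End A M) S) J hrange
  refine ⟨P.eval S, fun hm => ?_, fun m => ?_⟩
  · have : (Ideal.Quotient.mk q) (P.eval S) = (Ideal.Quotient.mk q S) ^ P.natDegree := by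
      rw [Polynomial.eval_eq_sum_range S, map_sum, Finset.sum_range_succ, Finset.sum_eq_zero fun k hk => ?_, zero_add,
        hPm.coeff_natDegree, one_mul, map_pow]
      rw [Ideal.Quotient.eq_zero_iff_mem]
      exact Ideal.mul_mem_right _ _ (hJ (Ideal.pow_le_self (by have := Finset.mem_range.1 hk; omega) (hPc k)))
    rw [Ideal.Quotient.eq_zero_iff_mem.2 hm, ← map_pow, eq_comm, Ideal.Quotient.eq_zero_iff_mem] at this
    exact hS (‹q.IsPrime›.mem_of_pow_mem _ this)
  · have h1 : Polynomial.aeval (algebraMap A (Module.End A M) S) P = algebraMap A (Module.End A M) (P.eval S) :=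
      Polynomial.aeval_algebraMap_apply_eq_algebraMap_eval S P
    exact LinearMap.congr_fun (h1.symm.trans hP) m

/-- The structure map, linearly over the smaller ring. -/
abbrev str (R A B : Type u) [CommRing R] [CommRing A] [CommRing B] [Algebra R A] [Algebra R B] [Algebra A B]
    [IsScalarTower R A B] : A →ₗ[R] B :=
  (IsScalarTower.toAlgHom R A B).toLinearMap

/-- A quasi-inverse near a prime at which the fibre map is bijective. -/
theorem exists_quasiInverse [IsNoetherianRing A] [Module.Finite A B] [Module.Flat R B] (q : Ideal A) [q.IsPrime]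
    (p : Ideal R) [p.IsPrime] (hp : q.comap (algebraMap R A) = p)
    (h : Function.Bijective ((str R A B).rTensor p.ResidueField)) :
    ∃ g ∉ q, ∃ ψ : B →ₗ[A] A, (∀ a, ψ (algebraMap A B a) = g * a) ∧ ∀ b, algebraMap A B (ψ b) = g • b := by
  classical
  let J : Ideal A := p.map (algebraMap R A)
  have hJ : J ≤ q := Ideal.map_le_iff_le_comap.2 hp.ge
  have hnot : ∀ r : R, r ∉ p → algebraMap R A r ∉ q := fun r hr hm => hr (hp ▸ hm)
  have hcomb : ∀ (C : Type u) [AddCommGroup C] [Module A C] [Module R C] [IsScalarTower R A C] (z : C ⊗[R] p),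
      TensorProduct.rid R C ((Submodule.subtype p).lTensor C z) ∈ J • (⊤ : Submodule A C) := by
    intro C _ _ _ _ z
    induction z using TensorProduct.induction_on with
    | zero => simp
    | add a b ha hb => simp only [map_add]; exact add_mem ha hb
    | tmul c r =>
      rw [LinearMap.lTensor_tmul, TensorProduct.rid_tmul, Submodule.subtype_apply, ← algebraMap_smul A (r : R) c]
      exact Submodule.smul_mem_smul (Ideal.mem_map_of_mem _ r.2) trivial
  -- the cokernel
  let C := B ⧸ LinearMap.range (Algebra.linearMap A B)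
  have hC : ∀ m : C, ∃ s ∉ q, s • m ∈ J • (⊤ : Submodule A C) := fun m => by
    obtain ⟨b, rfl⟩ := Submodule.Quotient.mk_surjective _ m
    obtain ⟨z, hz⟩ := h.2 (b ⊗ₜ 1)
    obtain ⟨t, ht, a, ha⟩ := exists_num_tensor z
    have h0 : (t • b - str R A B a) ⊗ₜ[R] (1 : p.ResidueField) = 0 := by
      rw [TensorProduct.sub_tmul, ← TensorProduct.smul_tmul', ← hz, ← map_smul, ha, LinearMap.rTensor_tmul, sub_self]
    obtain ⟨t', ht', w, hw⟩ := exists_of_tmul_one_eq_zero (A := R) _ h0
    refine ⟨algebraMap R A (t' * t), hnot _ fun hm => (‹p.IsPrime›.mem_or_mem hm).elim ht' ht, ?_⟩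
    have hmem : t' • (t • b - str R A B a) ∈ J • (⊤ : Submodule A B) := hw ▸ hcomb B w
    have hmap := Submodule.mem_map_of_mem (f := Submodule.mkQ (LinearMap.range (Algebra.linearMap A B))) hmem
    rw [Submodule.map_smul'', Submodule.map_top, Submodule.range_mkQ] at hmap
    have hzero : Submodule.mkQ (LinearMap.range (Algebra.linearMap A B)) (t' • str R A B a) = 0 := by
      rw [Submodule.mkQ_apply, Submodule.Quotient.mk_eq_zero]
      exact ⟨algebraMap R A t' * a, by simp [str, Algebra.smul_def, ← IsScalarTower.algebraMap_apply]⟩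
    rw [smul_sub, map_sub, hzero, sub_zero, smul_smul, ← algebraMap_smul A (t' * t) b, map_smul] at hmap
    exact hmap
  obtain ⟨g₁, hg₁, hg₁C⟩ := exists_notMem_smul_eq_zero q J hJ hC
  have hlift : ∀ b : B, ∃ a : A, algebraMap A B a = g₁ • b := fun b => by
    have := hg₁C (Submodule.Quotient.mk b)
    rw [← Submodule.Quotient.mk_smul, Submodule.Quotient.mk_eq_zero] at this
    exact this
  -- the kernel
  let K : Submodule A A := LinearMap.ker (Algebra.linearMap A B)
  have hK : ∀ m : K, ∃ s ∉ q, s • m ∈ J • (⊤ : Submodule A K) := by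
    rintro ⟨a, ha⟩
    have h0 : a ⊗ₜ[R] (1 : p.ResidueField) = 0 := h.1 (by
      rw [map_zero, LinearMap.rTensor_tmul, show str R A B a = 0 from ha, TensorProduct.zero_tmul])
    obtain ⟨t, ht, w, hw⟩ := exists_of_tmul_one_eq_zero (A := R) _ h0
    obtain ⟨n, p', a', hpa⟩ : ∃ (n : ℕ) (p' : Fin n → R) (a' : Fin n → A), (∀ i, p' i ∈ p) ∧
        t • a = ∑ i, p' i • a' i := by
      rw [← hw]
      clear hw
      induction w using TensorProduct.induction_on with
      | zero => exact ⟨0, Fin.elim0, Fin.elim0, fun i => i.elim0, by simp⟩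
      | tmul c r => exact ⟨1, fun _ => r, fun _ => c, fun _ => r.2, by simp⟩
      | add x y hx hy =>
        obtain ⟨n, p₁, a₁, hp₁, h₁⟩ := hx
        obtain ⟨m, p₂, a₂, hp₂, h₂⟩ := hy
        refine ⟨n + m, Fin.append p₁ p₂, Fin.append a₁ a₂, fun i => ?_, ?_⟩
        · refine Fin.addCases (fun j => ?_) (fun j => ?_) i <;> simp [hp₁, hp₂]
        · rw [map_add, map_add, h₁, h₂, Fin.sum_univ_add]
          simp
    obtain ⟨hp', hsum⟩ := hpa
    have hrel : ∑ i, p' i • str R A B (a' i) = 0 := by
      simp only [← map_smul, ← map_sum, ← hsum]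
      rw [map_smul, show str R A B a = 0 from ha, smul_zero]
    obtain ⟨κ, c, y, hy, hc⟩ := Module.Flat.isTrivialRelation_of_sum_smul_eq_zero (R := R) (M := B) (f := p')
      (x := fun i => str R A B (a' i)) hrel
    choose y' hy' using fun j => hlift (y j)
    let k : Fin n → A := fun i => g₁ * a' i - ∑ j, c i j • y' j
    have hk : ∀ i, k i ∈ K := fun i => by
      change algebraMap A B (g₁ * a' i - ∑ j, c i j • y' j) = 0
      have e : ∀ j, algebraMap A B (c i j • y' j) = c i j • (g₁ • y j) := fun j =>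
        (map_smul (IsScalarTower.toAlgHom R A B) (c i j) (y' j)).trans (by
          rw [show (IsScalarTower.toAlgHom R A B) (y' j) = algebraMap A B (y' j) from rfl, hy'])
      rw [map_sub, map_sum, Finset.sum_congr rfl fun j _ => e j, map_mul, sub_eq_zero]
      rw [show algebraMap A B (a' i) = str R A B (a' i) from rfl, show str R A B (a' i) = ∑ j, c i j • y j from hy i,
        Finset.mul_sum]
      refine Finset.sum_congr rfl fun j _ => ?_
      rw [mul_smul_comm, Algebra.smul_def g₁ (y j)]
    refine ⟨g₁ * algebraMap R A t, fun hm => (‹q.IsPrime›.mem_or_mem hm).elim hg₁ (hnot t ht), ?_⟩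
    have hz : ∑ i, p' i • (∑ j, c i j • y' j) = 0 := by
      simp only [Finset.smul_sum, smul_smul]
      rw [Finset.sum_comm]
      refine Finset.sum_eq_zero fun j _ => ?_
      rw [← Finset.sum_smul, hc j, zero_smul]
    have e : (g₁ * algebraMap R A t) • (⟨a, ha⟩ : K) =
        ∑ i, algebraMap R A (p' i) • (⟨k i, hk i⟩ : K) := by
      apply Subtype.ext
      rw [Submodule.coe_sum, Submodule.coe_smul]
      simp only [Submodule.coe_smul, smul_eq_mul, k, mul_sub, Finset.sum_sub_distrib]
      rw [mul_assoc, ← Algebra.smul_def, hsum, Finset.mul_sum]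
      simp only [← Algebra.smul_def, hz, sub_zero]
      refine Finset.sum_congr rfl fun i _ => ?_
      rw [mul_smul_comm]
    rw [e]
    exact Submodule.sum_mem _ fun i _ => Submodule.smul_mem_smul (Ideal.mem_map_of_mem _ (hp' i)) trivial
  obtain ⟨g₂, hg₂, hg₂K⟩ := exists_notMem_smul_eq_zero q J hJ hK
  choose ℓ hℓ using hlift
  have hkill : ∀ x : A, algebraMap A B x = 0 → g₂ * x = 0 := fun x hx => congrArg Subtype.val (hg₂K ⟨x, hx⟩)
  refine ⟨g₁ * g₂, fun hm => (‹q.IsPrime›.mem_or_mem hm).elim hg₁ hg₂,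
    { toFun := fun b => g₂ * ℓ b
      map_add' := fun b b' => by
        rw [← mul_add, ← sub_eq_zero, ← mul_sub]
        exact hkill _ (by rw [map_sub, map_add, hℓ, hℓ, hℓ, smul_add, sub_self])
      map_smul' := fun a b => by
        rw [RingHom.id_apply, smul_eq_mul, ← mul_left_comm g₂ a, ← sub_eq_zero, ← mul_sub]
        exact hkill _ (by rw [map_sub, map_mul, hℓ, hℓ, ← Algebra.smul_def, smul_comm, sub_self]) }, ?_, ?_⟩
  · intro a
    change g₂ * ℓ (algebraMap A B a) = g₁ * g₂ * a
    rw [mul_comm g₁ g₂, mul_assoc, ← sub_eq_zero, ← mul_sub]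
    exact hkill _ (by rw [map_sub, map_mul, hℓ, Algebra.smul_def, sub_self])
  · intro b
    change algebraMap A B (g₂ * ℓ b) = (g₁ * g₂) • b
    rw [map_mul, hℓ, mul_comm g₁, ← Algebra.smul_def, smul_smul]

end Groth.Agent.Contr18
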