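import Groth.Agent.Lib.Contr18.Near
import Groth.Agent.Lib.Descend.PointLocal
import Groth.Agent.Lib.FlatH4.FlatLocusScheme
import Groth.Agent.Lib.SchBasic.Basic

/-!
# Contractions near a fibre
-/

set_option autoImplicit false
set_option linter.style.haveILetI false
set_option maxHeartbeats 1000000
set_option backward.isDefEq.respectTransparency false
set_option backward.isDefEq.respectTransparency.types false

universe u

open CategoryTheory CategoryTheory.Limits AlgebraicGeometry TopologicalSpace Opposite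

noncomputable section

namespace Groth.Agent.Contr18

open Groth.Agent.FibH1_18

theorem dim_le_of_baseChange {X Y X' Y' : Scheme.{u}} {f : X ⟶ Y} {f' : X' ⟶ Y'} {g' : X' ⟶ X} {g : Y' ⟶ Y}
    [LocallyOfFiniteType f] (hc : IsPullback g' f' f g) (y' : Y') :
    topologicalKrullDim ↥(f'.fiber y') ≤ 1 ↔ topologicalKrullDim ↥(f.fiber (g y')) ≤ 1 := by
  haveI : LocallyOfFiniteType f' := MorphismProperty.of_isPullback hc inferInstance
  constructor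
  · intro h
    refine (FibGen4.dim_fiber_le_iff f (g y') 1).2 fun x hx => ?_
    obtain ⟨x', rfl, hx'⟩ := exists_of_isPullback hc hx
    rw [← FibDim14.fibreDimAt_baseChange hc x']
    exact (FibGen4.dim_fiber_le_iff f' y' 1).1 h x' hx'
  · intro h
    refine (FibGen4.dim_fiber_le_iff f' y' 1).2 fun x hx => ?_
    rw [FibDim14.fibreDimAt_baseChange hc x]
    refine (FibGen4.dim_fiber_le_iff f (g y') 1).1 h _ ?_
    rw [← Scheme.Hom.comp_apply, hc.w, Scheme.Hom.comp_apply, hx]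

theorem vanH_of_surjective_algebraMap {A : Type u} [CommRing A] {X : Scheme.{u}} (f₀ : X ⟶ Spec (CommRingCat.of A))
    [IsProper f₀] (hd : ∀ y, topologicalKrullDim ↥(f₀ ⁻¹' {y} : Set X) ≤ 1) (c : Cov X) {F : X.Modules}
    (hF : Coh.IsQCoh F) {B : Type u} [CommRing B] [Algebra A B] (h : Function.Surjective (algebraMap A B))
    (hA : VanH f₀ c F A) : VanH f₀ c F B :=
  vanH_of_surjective f₀ hd c hF (Algebra.linearMap A B) h hA

/-- Vanishing over an affine open from vanishing on its fibres. -/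
theorem subsingleton_HHon_of_fibres {X Y : Scheme.{u}} (f : X ⟶ Y) [IsProper f] {U : Y.Opens} (hU : IsAffineOpen U)
    (hd : ∀ w ∈ U, topologicalKrullDim ↥(f.fiber w) ≤ 1)
    (h : ∀ w ∈ U, Subsingleton (Coh.HH (f.fiber w) (Coh.structureModule (f.fiber w)) 1)) :
    Subsingleton (Coh.HHon X (Coh.structureModule X) (f ⁻¹ᵁ U) 1) := by
  have hd' : ∀ w ∈ U, topologicalKrullDim ↥(f ⁻¹' {w} : Set X) ≤ 1 := fun w hw => by
    rw [← VanFib13.dim_fiber]; exact hd w hw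
  obtain ⟨c⟩ := nonempty_cov (A := Γ(Y, U)) (pullback.snd f hU.fromSpec)
  have hO := M1.isCoh_structureModule (pullback f hU.fromSpec)
  have hA := vanH_self (A := Γ(Y, U)) _ (dim_chart f hU hd') c hO.1 hO.2 fun q _ => by
    have hy : hU.fromSpec ⟨q, ‹_›⟩ ∈ U := hU.range_fromSpec.le ⟨_, rfl⟩
    have hq : hU.primeIdealOf ⟨_, hy⟩ = ⟨q, ‹_›⟩ :=
      hU.fromSpec.isOpenEmbedding.injective (hU.fromSpec_primeIdealOf ⟨_, hy⟩)
    have h' := vanH_prime_of_fibre f hU hd' c hy (h _ hy)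
    have hp : (hU.primeIdealOf ⟨_, hy⟩).asIdeal = q := congrArg PrimeSpectrum.asIdeal hq
    exact vanH_residueField (A := Γ(Y, U)) _ (dim_chart f hU hd') c hO.1 q _
      ((Ideal.ker_algebraMap_residueField (I := (hU.primeIdealOf ⟨_, hy⟩).asIdeal)).trans hp) h'
  have e : U ≤ (𝟙 Y : Y ⟶ Y) ⁻¹ᵁ U := le_rfl
  have he : ∀ a, (𝟙 Y : Y ⟶ Y).appLE U U e a = a := fun a => by
    simp [Scheme.Hom.appLE]
    exact ConcreteCategory.congr_hom (Y.presheaf.map_id _) a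
  refine (@vanH_iff_HHon X Y f _ X Y (𝟙 X) f (𝟙 Y) (IsPullback.of_horiz_isIso ⟨by simp⟩) U hU c U hU e).1 ?_
  letI : Algebra Γ(Y, U) Γ(Y, U) := ((𝟙 Y : Y ⟶ Y).appLE U U e).hom.toAlgebra
  exact vanH_of_surjective_algebraMap (B := Γ(Y, U)) _ (dim_chart f hU hd') c hO.1 (fun a => ⟨a, he a⟩) hA

/-- Near a fibre on which it is a contraction, `f` is a contraction. -/
theorem exists_contraction {X Y S : Scheme.{u}} (f : X ⟶ Y) (g : Y ⟶ S) [IsProper f] [LocallyOfFinitePresentation g]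
    [LocallyOfFinitePresentation (f ≫ g)] (s : S) (hflat : ∀ x : X, g (f x) = s → ((f ≫ g).stalkMap x).hom.Flat)
    (hdim : ∀ y' : ↥(g.fiber s), topologicalKrullDim ↥((MoreMor.fiberMap f g s).fiber y') ≤ 1)
    (hR1 : ∀ U : (g.fiber s).Opens, IsAffineOpen U → Subsingleton (Coh.HHon ((f ≫ g).fiber s)
      (Coh.structureModule ((f ≫ g).fiber s)) (MoreMor.fiberMap f g s ⁻¹ᵁ U) 1))
    (hiso : ∀ U : (g.fiber s).Opens, IsIso ((MoreMor.fiberMap f g s).app U)) :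
    ∃ V : Y.Opens, g ⁻¹' {s} ⊆ (V : Set Y) ∧ Flat (V.ι ≫ g) ∧ Flat ((f ⁻¹ᵁ V).ι ≫ f ≫ g) ∧
      (∀ y ∈ V, topologicalKrullDim ↥(f.fiber y) ≤ 1) ∧
      ∀ {S' X' Y' : Scheme.{u}} (b : S' ⟶ S) (g' : Y' ⟶ S') (c' : X' ⟶ Y') (pY : Y' ⟶ Y) (pX : X' ⟶ X),
        IsPullback pY g' g b → IsPullback pX c' f pY → ∀ W : Y'.Opens, W ≤ pY ⁻¹ᵁ V →
          IsIso (c'.app W) ∧
            (IsAffineOpen W → Subsingleton (Coh.HHon X' (Coh.structureModule X') (c' ⁻¹ᵁ W) 1)) := by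
  haveI : LocallyOfFinitePresentation f := SchBasic.locallyOfFinitePresentation_of_comp f g
  let F : Set X := {x | ((f ≫ g).stalkMap x).hom.Flat}
  have hF : IsOpen F := FlatH4.isOpen_flatLocus (f ≫ g)
  let W₀ : Y.Opens := ⟨(f '' Fᶜ)ᶜ, (f.isClosedMap _ hF.isClosed_compl).isOpen_compl⟩
  have hW₀ : Flat ((f ⁻¹ᵁ W₀).ι ≫ f ≫ g) :=
    Descend.flat_of_stalk_on (f ≫ g) _ fun x hx => not_not.1 fun h => hx ⟨x, h, rfl⟩
  have hfib : ∀ y : Y, g y = s → topologicalKrullDim ↥(f.fiber y) ≤ 1 ∧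
      Subsingleton (Coh.HH (f.fiber y) (Coh.structureModule (f.fiber y)) 1) := fun y hy => by
    obtain ⟨y', rfl⟩ : y ∈ Set.range (g.fiberι s) := by rw [Scheme.Hom.range_fiberι]; exact hy
    have hd := (dim_le_of_baseChange (isPullback_fiberMap f g s) y').1 (hdim y')
    exact ⟨hd, h1_fibre_of_baseChange (isPullback_fiberMap f g s) y' hd hR1⟩
  have hgood : ∀ y : {y : Y // g y = s}, ∃ V : Y.Opens, y.1 ∈ V ∧ V ≤ W₀ ∧ Flat (V.ι ≫ g) ∧
      (∀ w ∈ V, topologicalKrullDim ↥(f.fiber w) ≤ 1) ∧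
      (∀ {X₁ Y₁ : Scheme.{u}} (f₁ : X₁ ⟶ Y₁) (g₁' : X₁ ⟶ X) (g₁ : Y₁ ⟶ Y), IsPullback g₁' f₁ f g₁ →
        ∀ U : Y₁.Opens, IsAffineOpen U → U ≤ g₁ ⁻¹ᵁ V →
          Subsingleton (Coh.HHon X₁ (Coh.structureModule X₁) (f₁ ⁻¹ᵁ U) 1)) ∧
      ∀ {S' X' Y' : Scheme.{u}} (b : S' ⟶ S) (g' : Y' ⟶ S') (c' : X' ⟶ Y') (pY : Y' ⟶ Y) (pX : X' ⟶ X),
        IsPullback pY g' g b → IsPullback pX c' f pY → ∀ W : Y'.Opens, W ≤ pY ⁻¹ᵁ V →
          Function.Bijective (c'.app W) := by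
    rintro ⟨y, hy⟩
    have hyW : y ∈ W₀ := fun ⟨x, hx, hxy⟩ => hx (hflat x (hxy ▸ hy))
    obtain ⟨hd, h1⟩ := hfib y hy
    obtain ⟨V₁, hy₁, -, hd₁, hv₁⟩ := exists_nhd_vanishing f y hd h1
    obtain ⟨V₂, hy₂, hf₂, hb₂⟩ := exists_good f g s y hy W₀ hyW hW₀ hd h1 hiso
    refine ⟨W₀ ⊓ V₁ ⊓ V₂, ⟨⟨hyW, hy₁⟩, hy₂⟩, inf_le_left.trans inf_le_left, ?_,
      fun w hw => by rw [VanFib13.dim_fiber]; exact hd₁ w hw.1.2,
      fun f₁ g₁' g₁ hc U hU hUV => hv₁ f₁ g₁' g₁ hc U hU fun z hz => (hUV hz).1.2,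
      fun b g' c' pY pX h h' W hW => hb₂ b g' c' pY pX h h' W fun z hz => (hW hz).2⟩
    rw [← Scheme.homOfLE_ι Y (inf_le_right : W₀ ⊓ V₁ ⊓ V₂ ≤ V₂), Category.assoc]
    infer_instance
  choose V hyV hVW hVf hVd hVv hVb using hgood
  have hmem : ∀ {w : Y}, w ∈ iSup V → ∃ y, w ∈ V y := fun {w} hw => Opens.mem_iSup.1 hw
  refine ⟨iSup V, fun y hy => Opens.mem_iSup.2 ⟨⟨y, hy⟩, hyV _⟩, ?_, ?_, fun w hw => ?_, ?_⟩
  · refine Descend.flat_of_stalk_on g _ fun w hw => ?_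
    obtain ⟨y, hwy⟩ := hmem hw
    haveI := hVf y
    have h := Flat.stalkMap ((V y).ι ≫ g) ⟨w, hwy⟩
    rw [Scheme.Hom.stalkMap_comp, CommRingCat.hom_comp] at h
    haveI : IsIso ((V y).ι.stalkMap ⟨w, hwy⟩) := inferInstance
    have h2 := RingHom.Flat.comp h
      (RingHom.Flat.of_bijective (ConcreteCategory.bijective_of_isIso (inv ((V y).ι.stalkMap ⟨w, hwy⟩))))
    rw [← RingHom.comp_assoc, ← CommRingCat.hom_comp, IsIso.hom_inv_id, CommRingCat.hom_id, RingHom.id_comp] at h2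
    exact h2
  · exact Descend.flat_of_stalk_on (f ≫ g) _ fun x hx => by
      obtain ⟨y, hxy⟩ := hmem hx
      exact not_not.1 fun h => (hVW y hxy) ⟨x, h, rfl⟩
  · obtain ⟨y, hwy⟩ := hmem hw
    exact hVd y w hwy
  intro S' X' Y' b g' c' pY pX h h' W hW
  have hloc : ∀ z ∈ W, ∃ y, z ∈ pY ⁻¹ᵁ V y := fun z hz => hmem (hW hz)
  refine ⟨(ConcreteCategory.isIso_iff_bijective _).2 (bijective_app_of_local c' (D := pY ⁻¹ᵁ iSup V) (fun U hU z hz => ?_) hW),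
    fun hWa => ?_⟩
  · obtain ⟨y, hzy⟩ := hmem (hU hz)
    exact ⟨U ⊓ pY ⁻¹ᵁ V y, ⟨hz, hzy⟩, inf_le_left, hVb y b g' c' pY pX h h' _ inf_le_right⟩
  haveI : IsProper c' := MorphismProperty.of_isPullback h' inferInstance
  refine subsingleton_HHon_of_fibres c' hWa (fun z hz => ?_) fun z hz => ?_
  · obtain ⟨y, hzy⟩ := hloc z hz
    exact (dim_le_of_baseChange h' z).2 (hVd y _ hzy)
  · obtain ⟨y, hzy⟩ := hloc z hz
    let O : Y'.Opens := pY ⁻¹ᵁ V y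
    refine h1_fibre_of_baseChange (isPullback_morphismRestrict c' O).flip ⟨z, hzy⟩
      ((dim_le_of_baseChange h' z).2 (hVd y _ hzy)) fun U hU => ?_
    exact hVv y _ _ _ ((isPullback_morphismRestrict c' O).flip.paste_horiz h') U hU fun w _ => w.2

end Groth.Agent.Contr18
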