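import Groth.Agent.Lib.FibH1_18.Degree0
import Groth.Agent.Lib.FibH1_18.Global
import Groth.Agent.Lib.FibH1_18.Sections
import Groth.Agent.Lib.CBC10.ChiPush
import Groth.Agent.Lib.Twist.Pullback
import Mathlib.RingTheory.Flat.Basic

/-!
# Functions commute with base change for flat families without `H^1`
-/

set_option autoImplicit false
set_option linter.style.haveILetI false
set_option linter.unusedSectionVars false
set_option maxHeartbeats 1000000
set_option backward.isDefEq.respectTransparency false
set_option backward.isDefEq.respectTransparency.types false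

universe u

open CategoryTheory CategoryTheory.Limits AlgebraicGeometry TopologicalSpace Opposite TensorProduct

noncomputable section

namespace Groth.Agent.Contr18

open Groth.Agent.CohFound Groth.Agent.CBC10 Groth.Agent.FibH1_18

variable {R : Type u} [CommRing R] {X : Scheme.{u}} (f : X ⟶ Spec (CommRingCat.of R))

/-- The functions as an algebra over the base. -/
abbrev algΓ : Algebra R Γ(X, ⊤) := (Coh.toGlobal f).toAlgebra

attribute [local instance] secA

/-- What dies after a surjection comes from its kernel. -/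
lemma exists_of_lTensor_eq_zero {A Q L M : Type u} [CommRing A] [AddCommGroup Q] [Module A Q] [AddCommGroup L]
    [Module A L] [AddCommGroup M] [Module A M] (π : L →ₗ[A] M) (hπ : Function.Surjective π) (z : Q ⊗[A] L)
    (h : π.lTensor Q z = 0) : ∃ v, (LinearMap.ker π).subtype.lTensor Q v = z :=
  (lTensor_exact Q (LinearMap.exact_subtype_ker_map π) hπ z).1 h

section Flat

variable [X.Over (Spec (CommRingCat.of R))] {ι : Type u} [Finite ι] {U : ι → X.Opens}
  (hcov : (⊤ : X.Opens) ≤ iSup U)
  (hU : ∀ (n : ℕ) (a : Fin (n + 1) → ι), IsAffineOpen (tupOpen (X := sp X) U a))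
  (hflat : ∀ W : X.Opens, IsAffineOpen W → Module.Flat R Γ(Coh.structureModule X, W))
  (hH2 : ∀ N : X.Modules, Coh.IsQCoh N → Subsingleton (Coh.HH X N 2))
  (hA : VanT R U (Coh.structureModule X) R)

variable (U) in
/-- The global functions inside the cochains. -/
def globL : Γ(Coh.structureModule X, (⊤ : X.Opens)) →ₗ[R] C U (Coh.structureModule X) 0 where
  toFun := glob U (Coh.structureModule X)
  map_add' a b := funext fun i => map_add _ a b
  map_smul' r a := funext fun i => (resL R (Coh.structureModule X) le_top).map_smul r a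

include hU hflat in
omit [Finite ι] in
lemma flat_C [Finite ι] (n : ℕ) : Module.Flat R (C U (Coh.structureModule X) n) := by
  haveI : ∀ a : Fin (n + 1) → ι, Module.Flat R Γ(Coh.structureModule X, tupOpen (X := sp X) U a) :=
    fun a => hflat _ (hU n a)
  haveI := Fintype.ofFinite (Fin (n + 1) → ι)
  classical
  exact Module.Flat.of_linearEquiv (DirectSum.linearEquivFunOnFintype R (Fin (n + 1) → ι) fun a => Γ(Coh.structureModule X, tupOpen (X := sp X) U a)).symm

include hcov hU hflat hH2 hA

/-- Cocycles of degree zero with coefficients are global functions with coefficients. -/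
lemma globL_range (M : Type u) [AddCommGroup M] [Module R M] (x : CT R U (Coh.structureModule X) M 0)
    (hx : dT R U (Coh.structureModule X) M 0 x = 0) : ∃ z, (globL (R := R) U).rTensor M z = x := by
  classical
  obtain ⟨w, hw, hxw⟩ := exists_finsupp_cocycle hcov hU (M1.isQCoh_structureModule X) hH2 hA x hx
  choose s hs using fun m => exists_glob hcov (Coh.structureModule X) (w m) (hw m)
  refine ⟨∑ m ∈ w.support, s m ⊗ₜ m, ?_⟩
  rw [hxw, map_sum, Finsupp.sum]
  exact Finset.sum_congr rfl fun m _ => by rw [LinearMap.rTensor_tmul]; exact congrArg (· ⊗ₜ m) (hs m)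

lemma globL_injective (M : Type u) [AddCommGroup M] [Module R M] : Function.Injective ((globL (R := R) U).rTensor M) := by
  classical
  suffices ∀ (L : Type u) [AddCommGroup L] [Module R L] [Module.Flat R L] (π : L →ₗ[R] M),
      Function.Surjective π → Function.Injective ((globL (R := R) U).rTensor M) from
    this (M →₀ R) (Finsupp.linearCombination R (id : M → M)) (Finsupp.linearCombination_id_surjective R M)
  intro L _ _ _ π hπ
  let j := (LinearMap.ker π).subtype
  rw [injective_iff_map_eq_zero]
  intro z hz
  obtain ⟨z', rfl⟩ := LinearMap.lTensor_surjective _ hπ z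
  have h1 : π.lTensor _ ((globL (R := R) U).rTensor _ z') = 0 := by
    rw [← LinearMap.comp_apply, LinearMap.lTensor_comp_rTensor, ← LinearMap.rTensor_comp_lTensor,
      LinearMap.comp_apply, hz]
  obtain ⟨v, hv⟩ := exists_of_lTensor_eq_zero π hπ _ h1
  have hdv : dT R U (Coh.structureModule X) _ 0 v = 0 := by
    haveI := flat_C hU hflat 1
    apply Module.Flat.lTensor_preserves_injective_linearMap (M := C U (Coh.structureModule X) 1) j
      (LinearMap.ker π).injective_subtype
    rw [map_zero, lTensor_dT, hv, ← LinearMap.rTensor_comp_apply,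
      show (dL R U (Coh.structureModule X) 0).comp (globL (R := R) U) = 0 from LinearMap.ext fun σ => dL_glob _ σ]
    simp
  obtain ⟨v', rfl⟩ := globL_range hcov hU hflat hH2 hA _ v hdv
  have h2 : (globL (R := R) U).rTensor _ (z' - j.lTensor _ v') = 0 := by
    rw [map_sub, ← hv, sub_eq_zero, ← LinearMap.comp_apply, ← LinearMap.comp_apply, LinearMap.lTensor_comp_rTensor,
      LinearMap.rTensor_comp_lTensor]
  have h3 : z' - j.lTensor _ v' = 0 := by
    refine Module.Flat.rTensor_preserves_injective_linearMap (M := L) (globL (R := R) U) ?_ (h2.trans (map_zero _).symm)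
    exact fun a b h => glob_injective hcov _ h
  rw [sub_eq_zero] at h3
  rw [h3, ← LinearMap.lTensor_comp_apply, show π ∘ₗ j = 0 from LinearMap.ext fun k => k.2]
  simp

/-- The global functions are flat. -/
theorem flat_top : Module.Flat R Γ(Coh.structureModule X, (⊤ : X.Opens)) := by
  rw [Module.Flat.iff_lTensor_preserves_injective_linearMap]
  intro M M' _ _ _ _ φ hφ
  haveI := flat_C hU hflat 0
  intro a b hab
  refine globL_injective hcov hU hflat hH2 hA M
    (Module.Flat.lTensor_preserves_injective_linearMap (M := C U (Coh.structureModule X) 0) φ hφ ?_)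
  rw [← LinearMap.comp_apply (φ.lTensor _), ← LinearMap.comp_apply (φ.lTensor _), LinearMap.lTensor_comp_rTensor,
    ← LinearMap.rTensor_comp_lTensor, LinearMap.comp_apply, LinearMap.comp_apply, hab]

end Flat

section Theta

variable {R' : Type u} [CommRing R'] [Algebra R R'] {X' : Scheme.{u}} {f' : X' ⟶ Spec (CommRingCat.of R')}
  {g : X' ⟶ X} (hc : IsPullback g f' f (Spec.map (CommRingCat.ofHom (algebraMap R R'))))

include hc in
lemma appTop_toGlobal (r : R) : g.appTop (Coh.toGlobal f r) = Coh.toGlobal f' (algebraMap R R' r) := by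
  have h := congrArg (fun t => Scheme.Hom.appTop t ((Scheme.ΓSpecIso (CommRingCat.of R)).inv r)) hc.w
  simp only [Scheme.Hom.comp_appTop, CommRingCat.comp_apply] at h
  exact h.trans (congrArg f'.appTop (ConcreteCategory.congr_hom
    (Scheme.ΓSpecIso_inv_naturality (CommRingCat.ofHom (algebraMap R R'))) r).symm)

/-- `t ⊗ r ↦ r · g^* t`. -/
def theta (hc : IsPullback g f' f (Spec.map (CommRingCat.ofHom (algebraMap R R')))) :
    letI := algΓ f
    Γ(X, ⊤) ⊗[R] R' →+* Γ(X', ⊤) :=
  letI := algΓ f
  letI : Algebra R Γ(X', ⊤) := ((Coh.toGlobal f').comp (algebraMap R R')).toAlgebra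
  (Algebra.TensorProduct.lift
    ({ g.appTop.hom with commutes' := appTop_toGlobal f hc } : Γ(X, ⊤) →ₐ[R] Γ(X', ⊤))
    ({ Coh.toGlobal f' with commutes' := fun _ => rfl } : R' →ₐ[R] Γ(X', ⊤)) fun _ _ => Commute.all _ _).toRingHom

lemma theta_tmul (t : Γ(X, ⊤)) (r : R') :
    letI := algΓ f
    theta f hc (t ⊗ₜ r) = g.appTop t * (show Γ(X', ⊤) from Coh.toGlobal f' r) :=
  rfl

/-- Base change of the global functions. -/
theorem bijective_theta [IsSeparated f] [QuasiCompact f] (c : Cov X)
    (hflat : ∀ W : X.Opens, IsAffineOpen W →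
      letI : X.Over (Spec (CommRingCat.of R)) := ⟨f⟩
      Module.Flat R Γ(Coh.structureModule X, W))
    (hH2 : ∀ N : X.Modules, Coh.IsQCoh N → Subsingleton (Coh.HH X N 2))
    (hH1 : Subsingleton (Coh.HH X (Coh.structureModule X) 1)) :
    Function.Bijective (theta f hc) := by
  classical
  letI : X.Over (Spec (CommRingCat.of R)) := ⟨f⟩
  letI : X'.Over (Spec (CommRingCat.of R')) := ⟨f'⟩
  letI : X'.Over (Spec (CommRingCat.of R)) := ⟨f' ≫ Spec.map (CommRingCat.ofHom (algebraMap R R'))⟩
  haveI : IsAffineHom g := MorphismProperty.of_isPullback hc.flip inferInstance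
  have h : Sq (A := R) (B := R') g := by constructor <;> first | exact hc | rfl
  letI := algΓ f
  let O := Coh.structureModule X
  have hA := (vanT_self_iff (A := R) c.cov c.aff (M1.isQCoh_structureModule X)).2 hH1
  let φ := Twist.pullbackUnitIso g
  let P := (Scheme.Modules.pushforward g).obj (Coh.structureModule X')
  have hb := chiPL_bijective c.U h φ (M1.isQCoh_structureModule X) c.aff
  have eid : ∀ r : R, ρ R (⊤ : X.Opens) r = Coh.toGlobal f r := fun r =>
    ConcreteCategory.congr_hom (X.presheaf.map_id (op ⊤)) _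
  let idL : Γ(X, ⊤) →ₗ[R] Γ(O, (⊤ : X.Opens)) :=
    { toFun := fun t => t
      map_add' := fun _ _ => rfl
      map_smul' := fun r t => by
        refine Eq.symm ?_
        change ρ R (⊤ : X.Opens) r * t = (show Γ(X, ⊤) from Coh.toGlobal f r) * t
        rw [eid] }
  have hid : Function.Bijective idL := ⟨fun a b hab => hab, fun a => ⟨a, rfl⟩⟩
  let idE := LinearEquiv.ofBijective idL hid
  have hun : ∀ (W : X.Opens) (s : Γ(X, W)), (unitTo φ).app W s = g.app W s := fun W s => by
    have h' := congrArg (fun ψ => Scheme.Modules.Hom.app ψ W s)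
      (((Scheme.Modules.pullbackPushforwardAdjunction g).homEquiv (Coh.structureModule X) (Coh.structureModule X')).apply_symm_apply
        (SheafOfModules.unitToPushforwardObjUnit g.toRingCatSheafHom))
    simp only [Adjunction.homEquiv_unit] at h'
    exact h'
  have key : ∀ z : Γ(X, ⊤) ⊗[R] R',
      chiPL c.U h φ 0 ((globL c.U).rTensor R' (idL.rTensor R' z)) = glob c.U P (theta f hc z) := by
    intro z
    induction z using TensorProduct.induction_on with
    | zero => simp only [map_zero]; exact (funext fun a => (map_zero _).symm)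
    | add a b ha hb => simp only [map_add, ha, hb]; exact (funext fun i => (map_add _ _ _).symm)
    | tmul t r =>
      funext a
      rw [LinearMap.rTensor_tmul, LinearMap.rTensor_tmul, chiPL_tmul]
      let W := tupOpen (X := sp X) c.U a
      have e1 : ∀ (s : Γ(O, W)) (b : R'), chiW h O φ W (s ⊗ₜ b) =
          (show Γ(X', g ⁻¹ᵁ W) from ρ R' (g ⁻¹ᵁ W) b * g.app W s) := fun s b => by
        have := chiW_mul h φ W b (s ⊗ₜ 1)
        rw [LinearMap.lTensor_tmul, LinearMap.mulLeft_apply, mul_one, chiW_one, hun] at this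
        exact this.trans (smulMod_app R' _ b _ _)
      refine (e1 _ r).trans ?_
      change ρ R' (g ⁻¹ᵁ W) r * g.app W (X.presheaf.map (homOfLE le_top).op t) =
        X'.presheaf.map (homOfLE (g.preimage_mono le_top)).op (theta f hc (t ⊗ₜ r))
      rw [theta_tmul, map_mul, mul_comm]
      refine congrArg₂ (· * ·) (ConcreteCategory.congr_hom (g.naturality (homOfLE (le_top : W ≤ ⊤)).op) t) rfl
  have hinjg : Function.Injective (fun z : Γ(X, ⊤) ⊗[R] R' =>
      chiPL c.U h φ 0 ((globL c.U).rTensor R' (idL.rTensor R' z))) :=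
    (hb 0).1.comp ((globL_injective c.cov c.aff hflat hH2 hA R').comp (idE.rTensor R').injective)
  refine ⟨fun a b hab => hinjg ((key a).trans ((congrArg (glob c.U P) hab).trans (key b).symm)), fun σ => ?_⟩
  obtain ⟨x, hx⟩ := (hb 0).2 (glob c.U P σ)
  have hxd : dT R c.U O R' 0 x = 0 := (hb 1).1 (by
    rw [map_zero]
    exact (chiPL_dL c.U h φ 0 x).trans (by rw [hx]; exact dL_glob P σ))
  obtain ⟨z, rfl⟩ := globL_range c.cov c.aff hflat hH2 hA R' x hxd
  obtain ⟨z', rfl⟩ := (idE.rTensor R').surjective z
  exact ⟨z', glob_injective c.cov P ((key z').symm.trans hx)⟩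

end Theta

end Groth.Agent.Contr18
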