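import Groth.Agent.Lib.Contr18.Loc
import Groth.Prelude.Def_MoreMor

/-!
# Charts of base changes
-/

set_option autoImplicit false
set_option linter.style.haveILetI false
set_option maxHeartbeats 1000000
set_option backward.isDefEq.respectTransparency false
set_option backward.isDefEq.respectTransparency.types false

universe u

open CategoryTheory CategoryTheory.Limits AlgebraicGeometry TopologicalSpace

noncomputable section

namespace Groth.Agent.Contr18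

theorem exists_of_isPullback {P A B C : Scheme.{u}} {p₁ : P ⟶ A} {p₂ : P ⟶ B} {a : A ⟶ C} {b : B ⟶ C}
    (h : IsPullback p₁ p₂ a b) {x : A} {z : B} (e : a x = b z) : ∃ w : P, p₁ w = x ∧ p₂ w = z := by
  obtain ⟨w, hw₁, hw₂⟩ := Scheme.Pullback.exists_preimage_pullback x z e
  exact ⟨h.isoPullback.inv w, by rw [← Scheme.Hom.comp_apply, h.isoPullback_inv_fst]; exact hw₁,
    by rw [← Scheme.Hom.comp_apply, h.isoPullback_inv_snd]; exact hw₂⟩

/-- The part of a base change lying over a chart. -/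
theorem exists_chart_square {X Y S : Scheme.{u}} {f : X ⟶ Y} {g : Y ⟶ S} {Y₃ X₃ : Scheme.{u}} {j : Y₃ ⟶ Y}
    [IsOpenImmersion j] {f₃ : X₃ ⟶ Y₃} {jX : X₃ ⟶ X} (hX₃ : IsPullback jX f₃ f j) {SA : Scheme.{u}}
    {g₃ : Y₃ ⟶ SA} {ι : SA ⟶ S} [Mono ι] (hg₃ : g₃ ≫ ι = j ≫ g) {S' X' Y' : Scheme.{u}} {b : S' ⟶ S}
    {g' : Y' ⟶ S'} {c' : X' ⟶ Y'} {pY : Y' ⟶ Y} {pX : X' ⟶ X} (hY' : IsPullback pY g' g b)
    (hX' : IsPullback pX c' f pY) {T : Scheme.{u}} (τ : T ⟶ S') [IsOpenImmersion τ] (σ : T ⟶ SA)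
    (hσ : σ ≫ ι = τ ≫ b) :
    ∃ (P Q : Scheme.{u}) (fk : Q ⟶ P) (pP : P ⟶ Y₃) (gP : P ⟶ T) (pQ : Q ⟶ X₃) (m : P ⟶ Y') (n : Q ⟶ X'),
      IsOpenImmersion m ∧ IsPullback pP gP g₃ σ ∧ IsPullback pQ fk f₃ pP ∧ IsPullback n fk c' m ∧ m ≫ pY = pP ≫ j ∧
      ∀ y' : Y', pY y' ∈ Set.range j → g' y' ∈ Set.range τ → y' ∈ Set.range m := by
  let Z := pullback g' τ
  have hZ : IsPullback (pullback.fst g' τ ≫ pY) (pullback.snd g' τ) g (τ ≫ b) :=
    (IsPullback.of_hasPullback g' τ).paste_horiz hY'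
  have hP : IsPullback (pullback.fst g₃ σ) (pullback.snd g₃ σ) (j ≫ g) (τ ≫ b) := by
    have h := (IsPullback.of_hasPullback g₃ σ).paste_horiz (isPullback_mono g₃ ι)
    rw [Category.comp_id, hg₃, hσ] at h
    exact h
  let m₁ : pullback g₃ σ ⟶ Z := hZ.lift (pullback.fst g₃ σ ≫ j) (pullback.snd g₃ σ)
    (by rw [Category.assoc]; exact hP.w)
  have hm₁ : IsPullback (pullback.fst g₃ σ) m₁ j (pullback.fst g' τ ≫ pY) := by
    refine IsPullback.of_bot ?_ (hZ.lift_fst _ _ _).symm hZ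
    rw [hZ.lift_snd]
    exact hP
  haveI : IsOpenImmersion m₁ := MorphismProperty.of_isPullback hm₁ inferInstance
  let m : pullback g₃ σ ⟶ Y' := m₁ ≫ pullback.fst g' τ
  have hm : m ≫ pY = pullback.fst g₃ σ ≫ j := by
    rw [Category.assoc]
    exact hZ.lift_fst _ _ _
  have hQ : IsPullback (pullback.fst f₃ (pullback.fst g₃ σ) ≫ jX) (pullback.snd f₃ (pullback.fst g₃ σ)) f
      (m ≫ pY) := by
    rw [hm]
    exact (IsPullback.of_hasPullback f₃ (pullback.fst g₃ σ)).paste_horiz hX₃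
  let n : pullback f₃ (pullback.fst g₃ σ) ⟶ X' := hX'.lift (pullback.fst f₃ (pullback.fst g₃ σ) ≫ jX)
    (pullback.snd f₃ (pullback.fst g₃ σ) ≫ m) (by rw [Category.assoc (pullback.snd f₃ _) m pY]; exact hQ.w)
  refine ⟨_, _, pullback.snd f₃ (pullback.fst g₃ σ), pullback.fst g₃ σ, pullback.snd g₃ σ,
    pullback.fst f₃ (pullback.fst g₃ σ), m, n, inferInstanceAs (IsOpenImmersion (m₁ ≫ pullback.fst g' τ)),
    IsPullback.of_hasPullback _ _, IsPullback.of_hasPullback _ _,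
    IsPullback.of_right (by rw [hX'.lift_fst]; exact hQ) (hX'.lift_snd _ _ _) hX', hm, ?_⟩
  rintro y' ⟨y₃, hy₃⟩ ⟨t, ht⟩
  obtain ⟨z, hz, -⟩ := exists_of_isPullback (IsPullback.of_hasPullback g' τ) ht.symm
  obtain ⟨w, -, hw⟩ := exists_of_isPullback hm₁ (x := y₃) (z := z)
    (by rw [Scheme.Hom.comp_apply, hz, hy₃])
  exact ⟨w, by rw [Scheme.Hom.comp_apply, hw, hz]⟩

/-- The fibre map is a base change. -/
theorem isPullback_fiberMap {X Y S : Scheme.{u}} (f : X ⟶ Y) (g : Y ⟶ S) (s : S) :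
    IsPullback ((f ≫ g).fiberι s) (MoreMor.fiberMap f g s) f (g.fiberι s) := by
  refine IsPullback.of_bot ?_ (pullback.lift_fst _ _ _).symm
    (IsPullback.of_hasPullback g (S.fromSpecResidueField s))
  rw [show MoreMor.fiberMap f g s ≫ pullback.snd g (S.fromSpecResidueField s) = (f ≫ g).fiberToSpecResidueField s
    from pullback.lift_snd _ _ _]
  exact IsPullback.of_hasPullback (f ≫ g) (S.fromSpecResidueField s)

end Groth.Agent.Contr18
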