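import Groth.Agent.Lib.Contr18.Algebra
import Groth.Agent.Lib.Contr18.BaseChange
import Groth.Agent.Lib.Stein6.Finite
import Groth.Agent.Lib.CBC10.FlatOver

/-!
# Bijectivity of `O_Y ⟶ f_* O_X` near a point of a noetherian model
-/

set_option autoImplicit false
set_option linter.style.haveILetI false
set_option linter.unusedSectionVars false
set_option maxHeartbeats 1000000
set_option backward.isDefEq.respectTransparency false
set_option backward.isDefEq.respectTransparency.types false

universe u

open CategoryTheory CategoryTheory.Limits AlgebraicGeometry TopologicalSpace Opposite TensorProduct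

noncomputable section

namespace Groth.Agent.Contr18

open Groth.Agent.CohFound Groth.Agent.CBC10 Groth.Agent.FibH1_18

attribute [local instance] secA

section Affine

variable {R : Type u} [CommRing R] {Y : Scheme.{u}} (g : Y ⟶ Spec (CommRingCat.of R))
  {R' : Type u} [CommRing R'] [Algebra R R'] {Y' : Scheme.{u}} {g' : Y' ⟶ Spec (CommRingCat.of R')} {p : Y' ⟶ Y}
  (hc : IsPullback p g' g (Spec.map (CommRingCat.ofHom (algebraMap R R'))))

/-- For an affine scheme the functions always commute with base change. -/
theorem bijective_theta_affine [IsAffine Y] : Function.Bijective (theta g hc) := by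
  letI : Y.Over (Spec (CommRingCat.of R)) := ⟨g⟩
  letI : Y'.Over (Spec (CommRingCat.of R')) := ⟨g'⟩
  letI : Y'.Over (Spec (CommRingCat.of R)) := ⟨g' ≫ Spec.map (CommRingCat.ofHom (algebraMap R R'))⟩
  haveI : IsAffineHom g := inferInstance
  haveI : IsAffineHom p := MorphismProperty.of_isPullback hc.flip inferInstance
  have h : Sq (A := R) (B := R') p := by constructor <;> first | exact hc | rfl
  letI := algΓ g
  let φ := Twist.pullbackUnitIso p
  let W : Y.Opens := ⊤
  have hb : Function.Bijective (chiW h (Coh.structureModule Y) φ W) :=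
    (ConcreteCategory.bijective_of_isIso (φ.hom.app (p ⁻¹ᵁ W))).comp
      (bijective_chi h (M1.isQCoh_structureModule Y) (isAffineOpen_top Y) ((isAffineOpen_top Y).preimage p) rfl)
  have eid : ∀ r : R, ρ R (⊤ : Y.Opens) r = Coh.toGlobal g r := fun r =>
    ConcreteCategory.congr_hom (Y.presheaf.map_id (op ⊤)) _
  have eid' : ∀ r : R', ρ R' (⊤ : Y'.Opens) r = Coh.toGlobal g' r := fun r =>
    ConcreteCategory.congr_hom (Y'.presheaf.map_id (op ⊤)) _
  let idL : Γ(Y, ⊤) →ₗ[R] Γ(Coh.structureModule Y, W) :=
    { toFun := fun t => t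
      map_add' := fun _ _ => rfl
      map_smul' := fun r t => by
        refine Eq.symm ?_
        change ρ R (⊤ : Y.Opens) r * t = (show Γ(Y, ⊤) from Coh.toGlobal g r) * t
        rw [eid] }
  let idE := LinearEquiv.ofBijective idL ⟨fun a b hab => hab, fun a => ⟨a, rfl⟩⟩
  have key : ∀ z : Γ(Y, ⊤) ⊗[R] R', (theta g hc z : Γ(Y', ⊤)) = chiW h (Coh.structureModule Y) φ W (idE.rTensor R' z) := by
    intro z
    induction z using TensorProduct.induction_on with
    | zero => simp only [map_zero]
    | add a b ha hb => simp only [map_add, ha, hb]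
    | tmul t r =>
      have := chiW_mul h φ W r ((idL t) ⊗ₜ (1 : R'))
      rw [LinearMap.lTensor_tmul, LinearMap.mulLeft_apply, mul_one, chiW_one] at this
      refine Eq.trans ?_ (this.trans (smulMod_app R' _ r _ _)).symm
      have hu : (unitTo φ).app W (idL t) = p.app W t := by
        have h' := congrArg (fun ψ => Scheme.Modules.Hom.app ψ W (idL t))
          (((Scheme.Modules.pullbackPushforwardAdjunction p).homEquiv (Coh.structureModule Y) (Coh.structureModule Y')).apply_symm_apply
            (SheafOfModules.unitToPushforwardObjUnit p.toRingCatSheafHom))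
        simp only [Adjunction.homEquiv_unit] at h'
        exact h'
      rw [hu, theta_tmul, mul_comm]
      exact congrArg₂ (fun (a b : Γ(Y', ⊤)) => a * b) (eid' r).symm rfl
  refine ⟨fun a b hab => (idE.rTensor R').injective (hb.1 ((key a).symm.trans (hab.trans (key b)))), fun σ => ?_⟩
  obtain ⟨z, hz⟩ := hb.2 σ
  obtain ⟨z', rfl⟩ := (idE.rTensor R').surjective z
  exact ⟨z', (key z').trans hz⟩

end Affine

section Core

variable {R : Type u} [CommRing R] {X Y : Scheme.{u}} (g : Y ⟶ Spec (CommRingCat.of R)) (f : X ⟶ Y)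

/-- The map of global functions, linearly over the base. -/
def appR :
    letI := algΓ g
    letI := algΓ (f ≫ g)
    Γ(Y, ⊤) →ₗ[R] Γ(X, ⊤) :=
  letI := algΓ g
  letI := algΓ (f ≫ g)
  { toFun := f.appTop
    map_add' := map_add _
    map_smul' := fun r a => by
      rw [Algebra.smul_def, map_mul]
      rfl }

variable {R' : Type u} [CommRing R'] [Algebra R R'] {X' Y' : Scheme.{u}} {g' : Y' ⟶ Spec (CommRingCat.of R')}
  {f' : X' ⟶ Y'} {pY : Y' ⟶ Y} {pX : X' ⟶ X}
  (hY : IsPullback pY g' g (Spec.map (CommRingCat.ofHom (algebraMap R R')))) (hX : IsPullback pX f' f pY)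

theorem theta_natural (z : letI := algΓ g; Γ(Y, ⊤) ⊗[R] R') :
    letI := algΓ g
    letI := algΓ (f ≫ g)
    theta (f ≫ g) (hX.paste_vert hY) ((appR g f).rTensor R' z) = f'.appTop (theta g hY z) := by
  letI := algΓ g
  letI := algΓ (f ≫ g)
  induction z using TensorProduct.induction_on with
  | zero => simp only [map_zero]
  | add a b ha hb => simp only [map_add, ha, hb]
  | tmul t r =>
    rw [LinearMap.rTensor_tmul, theta_tmul, theta_tmul, map_mul]
    congr 1
    have h := congrArg (fun q => Scheme.Hom.appTop q t) hX.w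
    simp only [Scheme.Hom.comp_appTop, CommRingCat.comp_apply] at h
    exact h

/-- Data making `O_Y ⟶ f_* O_X` bijective away from an element. -/
structure QuasiInv where
  elt : Γ(Y, ⊤)
  inv : Γ(X, ⊤) → Γ(Y, ⊤)
  left : ∀ a, inv (f.appTop a) = elt * a
  right : ∀ b, f.appTop (inv b) = f.appTop elt * b
  inv_add : ∀ b b', inv (b + b') = inv b + inv b'
  inv_smul : ∀ a b, inv (f.appTop a * b) = a * inv b

include hY hX in
/-- The quasi-inverse after base change. -/
theorem quasiInv_baseChange (Q : QuasiInv f) [IsAffine Y] [IsSeparated (f ≫ g)] [QuasiCompact (f ≫ g)] (c : Cov X)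
    (hflat : ∀ W : X.Opens, IsAffineOpen W →
      letI : X.Over (Spec (CommRingCat.of R)) := ⟨f ≫ g⟩
      Module.Flat R Γ(Coh.structureModule X, W))
    (hH2 : ∀ N : X.Modules, Coh.IsQCoh N → Subsingleton (Coh.HH X N 2))
    (hH1 : Subsingleton (Coh.HH X (Coh.structureModule X) 1)) :
    (∀ a : Γ(Y', ⊤), f'.appTop a = 0 → pY.appTop Q.elt * a = 0) ∧
      ∀ b : Γ(X', ⊤), ∃ a, f'.appTop a = f'.appTop (pY.appTop Q.elt) * b := by
  letI := algΓ g
  letI := algΓ (f ≫ g)
  let ψ : Γ(X, ⊤) →ₗ[R] Γ(Y, ⊤) :=
    { toFun := Q.inv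
      map_add' := Q.inv_add
      map_smul' := fun r b => by
        rw [Algebra.smul_def, RingHom.id_apply, Algebra.smul_def]
        exact Q.inv_smul _ b }
  have hθY := bijective_theta_affine g hY
  have hθX := bijective_theta (f ≫ g) (hX.paste_vert hY) c hflat hH2 hH1
  have h1 : ∀ z : Γ(Y, ⊤) ⊗[R] R', theta g hY (ψ.rTensor R' ((appR g f).rTensor R' z)) =
      pY.appTop Q.elt * theta g hY z := fun z => by
    induction z using TensorProduct.induction_on with
    | zero => simp only [map_zero, mul_zero]
    | add a b ha hb => simp only [map_add, ha, hb, mul_add]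
    | tmul t r =>
      rw [LinearMap.rTensor_tmul, LinearMap.rTensor_tmul, theta_tmul, theta_tmul, ← mul_assoc, ← map_mul]
      exact congrArg (fun s => pY.appTop s * _) (Q.left t)
  have h2 : ∀ w : Γ(X, ⊤) ⊗[R] R', theta (f ≫ g) (hX.paste_vert hY) ((appR g f).rTensor R' (ψ.rTensor R' w)) =
      f'.appTop (pY.appTop Q.elt) * theta (f ≫ g) (hX.paste_vert hY) w := fun w => by
    induction w using TensorProduct.induction_on with
    | zero => simp only [map_zero, mul_zero]
    | add a b ha hb => simp only [map_add, ha, hb, mul_add]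
    | tmul t r =>
      rw [LinearMap.rTensor_tmul, LinearMap.rTensor_tmul, theta_tmul, theta_tmul, ← mul_assoc]
      have h := congrArg (fun q => Scheme.Hom.appTop q Q.elt) hX.w
      simp only [Scheme.Hom.comp_appTop, CommRingCat.comp_apply] at h
      rw [← h, ← map_mul]
      exact congrArg (fun s => pX.appTop s * _) (Q.right t)
  refine ⟨fun a ha => ?_, fun b => ?_⟩
  · obtain ⟨z, rfl⟩ := hθY.2 a
    have hz : (appR g f).rTensor R' z = 0 := hθX.1 (by rw [theta_natural g f hY hX z, ha, map_zero])
    rw [← h1, hz, map_zero, map_zero]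
  · obtain ⟨w, rfl⟩ := hθX.2 b
    exact ⟨theta g hY (ψ.rTensor R' w), (theta_natural g f hY hX _).symm.trans (h2 w)⟩

include hY hX in
/-- A quasi-inverse near a point where the fibre map is bijective. -/
theorem exists_quasiInv [IsNoetherianRing Γ(Y, ⊤)] [IsAffine Y] [IsProper f] [IsSeparated g] [QuasiCompact g]
    (c : Cov X) (hflat : ∀ W : X.Opens, IsAffineOpen W →
      letI : X.Over (Spec (CommRingCat.of R)) := ⟨f ≫ g⟩
      Module.Flat R Γ(Coh.structureModule X, W))
    (hH2 : ∀ N : X.Modules, Coh.IsQCoh N → Subsingleton (Coh.HH X N 2))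
    (hH1 : Subsingleton (Coh.HH X (Coh.structureModule X) 1)) (q : Ideal Γ(Y, ⊤)) [q.IsPrime]
    (hq : q.comap (Coh.toGlobal g) = RingHom.ker (algebraMap R R'))
    (hfib : Function.Bijective f'.appTop) (hfield : IsField R') :
    ∃ Q : QuasiInv f, Q.elt ∉ q := by
  classical
  letI := algΓ g
  letI := algΓ (f ≫ g)
  letI : Algebra Γ(Y, ⊤) Γ(X, ⊤) := f.appTop.hom.toAlgebra
  haveI : IsScalarTower R Γ(Y, ⊤) Γ(X, ⊤) := IsScalarTower.of_algebraMap_eq fun r => rfl
  haveI : IsNoetherianRing Γ(Y, ⊤) := ‹_›
  haveI : Module.Finite Γ(Y, ⊤) Γ(X, ⊤) := by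
    have h : (f.appTop.hom).Finite := Stein6.finite_appTop f
    exact h
  haveI : Module.Flat R Γ(X, ⊤) := by
    letI : X.Over (Spec (CommRingCat.of R)) := ⟨f ≫ g⟩
    haveI := flat_top (R := R) (U := c.U) c.cov c.aff hflat hH2
      ((vanT_self_iff c.cov c.aff (M1.isQCoh_structureModule X)).2 hH1)
    refine Module.Flat.of_linearEquiv (N := Γ(X, ⊤)) (M := Γ(Coh.structureModule X, (⊤ : X.Opens)))
      { toFun := fun t => t
        invFun := fun t => t
        left_inv := fun _ => rfl
        right_inv := fun _ => rfl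
        map_add' := fun _ _ => rfl
        map_smul' := fun r t => ?_ }
    rw [RingHom.id_apply, Algebra.smul_def]
    change (show Γ(X, ⊤) from Coh.toGlobal (f ≫ g) r) * t = ρ R (⊤ : X.Opens) r * (show Γ(X, ⊤) from t)
    rw [show ρ R (⊤ : X.Opens) r = Coh.toGlobal (f ≫ g) r from ConcreteCategory.congr_hom (X.presheaf.map_id (op ⊤)) _]
  letI := hfield.toField
  haveI : (RingHom.ker (algebraMap R R')).IsPrime := RingHom.ker_isPrime _
  let p := RingHom.ker (algebraMap R R')
  let j : p.ResidueField →+* R' := Ideal.ResidueField.lift p (algebraMap R R') le_rfl (fun a ha =>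
    isUnit_iff_ne_zero.2 ha)
  letI : Algebra p.ResidueField R' := j.toAlgebra
  haveI : IsScalarTower R p.ResidueField R' := IsScalarTower.of_algebraMap_eq fun a =>
    (Ideal.ResidueField.lift_algebraMap _ _ _ _ a).symm
  have hbR' : Function.Bijective ((appR g f).rTensor R') := by
    have hθY := bijective_theta_affine g hY
    have hθX := bijective_theta (f ≫ g) (hX.paste_vert hY) c hflat hH2 hH1
    have e : theta (f ≫ g) (hX.paste_vert hY) ∘ (appR g f).rTensor R' = f'.appTop ∘ theta g hY :=
      funext (theta_natural g f hY hX)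
    exact (Function.Bijective.of_comp_iff' hθX _).1 (e ▸ hfib.comp hθY)
  have hbk : Function.Bijective ((appR g f).rTensor p.ResidueField) := by
    let F := (appR g f).baseChange p.ResidueField
    have key : ∀ z, (TensorProduct.comm R _ _) (F z) = (appR g f).rTensor p.ResidueField (TensorProduct.comm R _ _ z) := by
      intro z
      induction z using TensorProduct.induction_on with
      | zero => simp only [map_zero]
      | add a b ha hb => simp only [map_add, ha, hb]
      | tmul a b => simp [F]
    suffices h : Function.Bijective F by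
      rw [show ⇑((appR g f).rTensor p.ResidueField) = (TensorProduct.comm R _ _) ∘ F ∘ (TensorProduct.comm R _ _).symm
        from funext fun z => by simp only [Function.comp, key, LinearEquiv.apply_symm_apply]]
      exact ((LinearEquiv.bijective _).comp h).comp (LinearEquiv.bijective _)
    let e₁ := TensorProduct.AlgebraTensorModule.cancelBaseChange R p.ResidueField p.ResidueField R' Γ(Y, ⊤)
    let e₂ := TensorProduct.AlgebraTensorModule.cancelBaseChange R p.ResidueField p.ResidueField R' Γ(X, ⊤)
    have key2 : ∀ z, e₂ (F.lTensor R' z) = (TensorProduct.comm R _ _) ((appR g f).rTensor R'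
        ((TensorProduct.comm R _ _) (e₁ z))) := by
      intro z
      induction z using TensorProduct.induction_on with
      | zero => simp only [map_zero]
      | add a b ha hb => simp only [map_add, ha, hb]
      | tmul a b =>
        induction b using TensorProduct.induction_on with
        | zero => simp
        | add u v hu hv => simp only [TensorProduct.tmul_add, map_add, hu, hv]
        | tmul u v => simp [e₁, e₂, F]
    have h2 : Function.Bijective (F.lTensor R') := by
      rw [show ⇑(F.lTensor R') = e₂.symm ∘ (TensorProduct.comm R _ _) ∘ (appR g f).rTensor R' ∘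
        (TensorProduct.comm R _ _) ∘ e₁ from funext fun z => by simp [Function.comp, ← key2]]
      exact e₂.symm.bijective.comp ((LinearEquiv.bijective _).comp (hbR'.comp ((LinearEquiv.bijective _).comp e₁.bijective)))
    exact ⟨(Module.FaithfullyFlat.lTensor_injective_iff_injective p.ResidueField R' F).1 h2.1,
      (Module.FaithfullyFlat.lTensor_surjective_iff_surjective p.ResidueField R' F).1 h2.2⟩
  have hstr : str R Γ(Y, ⊤) Γ(X, ⊤) = appR g f := LinearMap.ext fun a => rfl
  obtain ⟨e, he, ψ, hψ₁, hψ₂⟩ := exists_quasiInverse (R := R) (A := Γ(Y, ⊤)) (B := Γ(X, ⊤)) q p hq (hstr ▸ hbk)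
  exact ⟨{ elt := e, inv := ψ, left := hψ₁, right := fun b => (hψ₂ b).trans (Algebra.smul_def e b),
           inv_add := map_add ψ, inv_smul := fun a b => (congrArg ψ (Algebra.smul_def a b).symm).trans (map_smul ψ a b) }, he⟩

end Core

end Groth.Agent.Contr18
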