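import Groth.Agent.Lib.Contr18.Apply
import Groth.Agent.Lib.RigidRel.Collapse
import Groth.Agent.Lib.CIPic27.Lift
import Groth.Agent.S16753

/-!
# Factoring through a contraction near a fibre
-/

set_option autoImplicit false
set_option linter.style.haveILetI false
set_option maxHeartbeats 1000000
set_option backward.isDefEq.respectTransparency false

universe u

open CategoryTheory CategoryTheory.Limits AlgebraicGeometry TopologicalSpace Opposite

noncomputable section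

namespace Groth.Agent.Contr18

/-- `H¹` of the structure sheaf over an open is invariant under isomorphisms. -/
theorem subsingleton_HHon_of_iso {A B : Scheme.{u}} (β : A ⟶ B) [IsIso β] (U : B.Opens) (n : ℕ)
    (h : Subsingleton (Coh.HHon A (Coh.structureModule A) (β ⁻¹ᵁ U) n)) :
    Subsingleton (Coh.HHon B (Coh.structureModule B) U n) := by
  have e : ∀ {C : Scheme.{u}} (V : C.Opens), Coh.HHon C (Coh.structureModule C) V n ≃
      Coh.HH V.toScheme (Coh.structureModule V.toScheme) n := fun {C} V =>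
    ((Sheaf.functorH _ n).mapIso ((SheafOfModules.toSheaf _).mapIso
      (Scheme.Modules.restrictUnitIso V.ι))).addCommGroupIsoToAddEquiv.toEquiv
  exact (e U).subsingleton_congr.2 (CIPic27.subsingleton_HH_structure_of_iso (inv (β ∣_ U)) n
    ((e _).subsingleton_congr.1 h))

variable {S : Scheme.{u}}

/-- The hypotheses on the fibre, transported to the chosen model of the fibres. -/
theorem fiberMap_hyps {X Y : Scheme.{u}} (c : X ⟶ Y) (g : Y ⟶ S) (s : S) {Xs Ys : Scheme.{u}}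
    {iX : Xs ⟶ X} {qX : Xs ⟶ Spec (S.residueField s)} (hX : IsPullback iX qX (c ≫ g) (S.fromSpecResidueField s))
    {i : Ys ⟶ Y} {q : Ys ⟶ Spec (S.residueField s)} (hY : IsPullback i q g (S.fromSpecResidueField s))
    (d : Xs ⟶ Ys) (hd : d ≫ i = iX ≫ c) (hdq : d ≫ q = qX) (hiso : ∀ U : Ys.Opens, IsIso (d.app U))
    (hR1 : ∀ U : Ys.Opens, IsAffineOpen U → Subsingleton (Coh.HHon Xs (Coh.structureModule Xs) (d ⁻¹ᵁ U) 1)) :
    (∀ U : (g.fiber s).Opens, IsIso ((MoreMor.fiberMap c g s).app U)) ∧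
      ∀ U : (g.fiber s).Opens, IsAffineOpen U → Subsingleton (Coh.HHon ((c ≫ g).fiber s)
        (Coh.structureModule ((c ≫ g).fiber s)) (MoreMor.fiberMap c g s ⁻¹ᵁ U) 1) := by
  let α : Ys ⟶ g.fiber s := hY.isoPullback.hom
  let β : Xs ⟶ (c ≫ g).fiber s := hX.isoPullback.hom
  have hm : β ≫ MoreMor.fiberMap c g s = d ≫ α := by
    refine pullback.hom_ext ?_ ?_
    · simp [α, β, MoreMor.fiberMap, Scheme.Hom.fiberι, Scheme.Hom.fiberToSpecResidueField, hd]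
    · simp [α, β, MoreMor.fiberMap, Scheme.Hom.fiberι, Scheme.Hom.fiberToSpecResidueField, hdq]
  constructor
  · intro U
    have h : MoreMor.fiberMap c g s = inv β ≫ d ≫ α := by rw [← hm, IsIso.inv_hom_id_assoc]
    rw [h, Scheme.Hom.comp_app, Scheme.Hom.comp_app]
    haveI := hiso
    infer_instance
  · intro U hU
    refine subsingleton_HHon_of_iso β _ 1 ?_
    rw [← Scheme.Hom.comp_preimage, hm, Scheme.Hom.comp_preimage]
    exact hR1 _ (hU.preimage_of_isIso α)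

/-- The contraction conditions pass through an isomorphism of the target. -/
theorem hyps_comp_iso {X Y Z : Scheme.{u}} (d : X ⟶ Y) (e : Y ⟶ Z) [IsIso e]
    (hiso : ∀ U : Y.Opens, IsIso (d.app U))
    (hR1 : ∀ U : Y.Opens, IsAffineOpen U → Subsingleton (Coh.HHon X (Coh.structureModule X) (d ⁻¹ᵁ U) 1)) :
    (∀ U : Z.Opens, IsIso ((d ≫ e).app U)) ∧
      ∀ U : Z.Opens, IsAffineOpen U → Subsingleton (Coh.HHon X (Coh.structureModule X) ((d ≫ e) ⁻¹ᵁ U) 1) := by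
  refine ⟨fun U => ?_, fun U hU => by rw [Scheme.Hom.comp_preimage]; exact hR1 _ (hU.preimage_of_isIso e)⟩
  rw [Scheme.Hom.comp_app]
  haveI := hiso
  infer_instance

/-- A contraction is an epimorphism. -/
theorem cancel_of_isIso_app {A B Z : Scheme.{u}} (p : A ⟶ B) [IsProper p] (h : ∀ U : B.Opens, IsIso (p.app U))
    {a b : B ⟶ Z} (hab : p ≫ a = p ≫ b) : a = b := by
  have hi : ∀ U : B.Opens, IsAffineOpen U → Function.Injective (p.app U).hom := fun U _ =>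
    haveI := h U; (ConcreteCategory.bijective_of_isIso (p.app U)).1
  haveI := RigidRel.surjective_of_injective_app p hi
  exact RigidRel.cancel_of_injective_app p hi a b hab

variable {X Y Z : Scheme.{u}} (c : X ⟶ Y) (g : Y ⟶ S) (k : Z ⟶ S) (h : X ⟶ Z)

/-- Collapsing on one fibre gives collapsing near it. -/
theorem exists_collapse [IsProper c] [IsProper g] (U₀ : S.Opens)
    (h0 : ∀ W : (g ⁻¹ᵁ U₀).toScheme.Opens, IsIso ((c ∣_ g ⁻¹ᵁ U₀).app W)) (s : S) (hs : s ∈ U₀)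
    (hp : ∀ y, g y = s → ∃ z, ∀ x, c x = y → h x = z) :
    ∃ U : S.Opens, s ∈ U ∧ U ≤ U₀ ∧ ∀ y, g y ∈ U → ∃ z, ∀ x, c x = y → h x = z := by
  let P := g ⁻¹ᵁ U₀
  let f := (c ⁻¹ᵁ P).ι ≫ h
  have hb : ∀ W : P.toScheme.Opens, IsAffineOpen W → Function.Bijective ((c ∣_ P).app W).hom := fun W _ =>
    haveI := h0 W; ConcreteCategory.bijective_of_isIso ((c ∣_ P).app W)
  have hval : ∀ x : ↥(c ⁻¹ᵁ P).toScheme, ((c ∣_ P) x).1 = c x.1 := fun x =>
    congrArg (fun φ => φ x) (morphismRestrict_ι c P)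
  let L : Y.Opens := P.ι ''ᵁ RigidRel.collapsedOpen (c ∣_ P) hb f
  refine ⟨U₀ ⊓ ⟨(g '' (L : Set Y)ᶜ)ᶜ, (g.isClosedMap _ L.isOpen.isClosed_compl).isOpen_compl⟩, ⟨hs, ?_⟩,
    inf_le_left, fun y hy => ?_⟩
  · rintro ⟨y, hy, hys⟩
    have hyP : y ∈ P := show g y ∈ U₀ from hys ▸ hs
    obtain ⟨z, hz⟩ := hp y hys
    exact hy ⟨⟨y, hyP⟩, ⟨z, fun x hx => hz x.1 ((hval x).symm.trans (congrArg Subtype.val hx))⟩, rfl⟩
  · have hyL : y ∈ L := not_not.1 fun hn => hy.2 ⟨y, hn, rfl⟩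
    obtain ⟨⟨y', hyP⟩, ⟨z, hz⟩, rfl⟩ := hyL
    refine ⟨z, fun x hx => ?_⟩
    have hxP : x ∈ c ⁻¹ᵁ P := show c x ∈ P from hx ▸ hyP
    exact hz ⟨x, hxP⟩ (Subtype.ext ((hval ⟨x, hxP⟩).trans hx))

/-- The factorization over an open where everything is collapsed. -/
theorem exists_hom [IsProper c] (hw : c ≫ g = h ≫ k) (U : S.Opens)
    (h0 : ∀ W : (g ⁻¹ᵁ U).toScheme.Opens, IsIso ((c ∣_ g ⁻¹ᵁ U).app W))
    (hp : ∀ y, g y ∈ U → ∃ z, ∀ x, c x = y → h x = z) :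
    ∃ φ : (g ⁻¹ᵁ U).toScheme ⟶ (k ⁻¹ᵁ U).toScheme,
      (c ∣_ g ⁻¹ᵁ U) ≫ φ ≫ (k ⁻¹ᵁ U).ι = (c ⁻¹ᵁ g ⁻¹ᵁ U).ι ≫ h ∧
        φ ≫ (k ⁻¹ᵁ U).ι ≫ k = (g ⁻¹ᵁ U).ι ≫ g := by
  let P := g ⁻¹ᵁ U
  let ξ := c ∣_ P
  let f := (c ⁻¹ᵁ P).ι ≫ h
  have hb : ∀ W : P.toScheme.Opens, IsAffineOpen W → Function.Bijective (ξ.app W).hom := fun W _ =>
    haveI := h0 W; ConcreteCategory.bijective_of_isIso (ξ.app W)
  have hval : ∀ x : ↥(c ⁻¹ᵁ P).toScheme, (ξ x).1 = c x.1 := fun x =>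
    congrArg (fun φ => φ x) (morphismRestrict_ι c P)
  obtain ⟨r, hr⟩ := RigidRel.exists_factor ξ hb f
  let L := RigidRel.collapsedOpen ξ hb f
  have hL : L = ⊤ := top_le_iff.1 fun y _ => by
    obtain ⟨z, hz⟩ := hp y.1 y.2
    exact ⟨z, fun x hx => hz x.1 ((hval x).symm.trans (congrArg Subtype.val hx))⟩
  haveI : IsIso L.ι := by rw [hL]; exact (Scheme.topIso P.toScheme).isIso_hom
  haveI : IsIso (ξ ⁻¹ᵁ L).ι := by rw [hL]; exact (Scheme.topIso (c ⁻¹ᵁ P).toScheme).isIso_hom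
  let φ₀ : P.toScheme ⟶ Z := inv L.ι ≫ r
  have hφ₀ : ξ ≫ φ₀ = f := by
    rw [← cancel_epi (ξ ⁻¹ᵁ L).ι, ← morphismRestrict_ι_assoc, IsIso.hom_inv_id_assoc]
    exact hr
  have hk : φ₀ ≫ k = P.ι ≫ g := cancel_of_isIso_app ξ h0 (by
    rw [← Category.assoc, hφ₀, morphismRestrict_ι_assoc, hw, Category.assoc])
  have hrange : Set.range φ₀ ⊆ Set.range (k ⁻¹ᵁ U).ι := by
    rintro _ ⟨y, rfl⟩
    rw [Scheme.Opens.range_ι]
    show k (φ₀ y) ∈ U
    rw [← Scheme.Hom.comp_apply, hk]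
    exact y.2
  refine ⟨IsOpenImmersion.lift (k ⁻¹ᵁ U).ι φ₀ hrange, ?_, ?_⟩
  · rw [IsOpenImmersion.lift_fac]; exact hφ₀
  · rw [IsOpenImmersion.lift_fac_assoc]; exact hk

/-- Fibres are collapsed by the second contraction. -/
theorem collapse_fibre (s : S) {Xs Ys Zs : Scheme.{u}}
    {iX : Xs ⟶ X} {qX : Xs ⟶ Spec (S.residueField s)} (hX : IsPullback iX qX (c ≫ g) (S.fromSpecResidueField s))
    {i : Ys ⟶ Y} {q : Ys ⟶ Spec (S.residueField s)} (hY : IsPullback i q g (S.fromSpecResidueField s))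
    {j : Zs ⟶ Z} (d : Xs ⟶ Ys) (hd : d ≫ i = iX ≫ c) (e : Ys ⟶ Zs) (he : d ≫ e ≫ j = iX ≫ h)
    (y : Y) (hy : g y = s) : ∃ z, ∀ x, c x = y → h x = z := by
  have hrs : s ∈ Set.range (S.fromSpecResidueField s) := by rw [Scheme.range_fromSpecResidueField]; rfl
  obtain ⟨p₀, hp₀⟩ := hrs
  obtain ⟨y', hy', -⟩ := exists_of_isPullback hY (x := y) (z := p₀) (hy.trans hp₀.symm)
  refine ⟨j (e y'), fun x hx => ?_⟩
  obtain ⟨x', hx', -⟩ := exists_of_isPullback hX (x := x) (z := p₀) (by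
    rw [Scheme.Hom.comp_apply, hx, hy]; exact hp₀.symm)
  haveI : IsPreimmersion i := MorphismProperty.of_isPullback hY.flip inferInstance
  have h1 : d x' = y' := i.isEmbedding.injective (by
    rw [← Scheme.Hom.comp_apply, hd, Scheme.Hom.comp_apply, hx', hx, hy'])
  rw [← h1, ← hx', ← Scheme.Hom.comp_apply, ← Scheme.Hom.comp_apply, ← Scheme.Hom.comp_apply, he]

end Groth.Agent.Contr18
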