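import Groth.Agent.Lib.FibH1_18.Point
import Groth.Agent.Lib.VanFib13.Apply

/-!
# Vanishing of `H^1` on fibres through squares
-/

set_option autoImplicit false
set_option linter.style.haveILetI false
set_option maxHeartbeats 1000000
set_option backward.isDefEq.respectTransparency false
set_option backward.isDefEq.respectTransparency.types false

universe u

open CategoryTheory CategoryTheory.Limits AlgebraicGeometry TopologicalSpace Opposite

noncomputable section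

namespace Groth.Agent.Contr18

open Groth.Agent.FibH1_18

variable {X Y X' Y' : Scheme.{u}} {f : X ⟶ Y} [IsProper f] {f' : X' ⟶ Y'} {g' : X' ⟶ X} {g : Y' ⟶ Y}

/-- The fibre has no `H^1` when a base change has none near a point over it. -/
theorem h1_fibre_of_baseChange (hc : IsPullback g' f' f g) (y' : Y') (hdim : topologicalKrullDim ↥(f.fiber (g y')) ≤ 1)
    (hR1 : ∀ U : Y'.Opens, IsAffineOpen U → Subsingleton (Coh.HHon X' (Coh.structureModule X') (f' ⁻¹ᵁ U) 1)) :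
    Subsingleton (Coh.HH (f.fiber (g y')) (Coh.structureModule (f.fiber (g y'))) 1) := by
  obtain ⟨V₀, hyV, hV, hd'⟩ := VanFib13.exists_affine_nhd f (g y') 1 (by simpa using hdim)
  have hd : ∀ w ∈ V₀, topologicalKrullDim ↥(f ⁻¹' {w} : Set X) ≤ 1 := fun w hw => by simpa using hd' w hw
  obtain ⟨c⟩ := nonempty_cov (A := Γ(Y, V₀)) (pullback.snd f hV.fromSpec)
  have hO := M1.isCoh_structureModule (pullback f hV.fromSpec)
  obtain ⟨U, hU, hyU, e⟩ := exists_isAffineOpen_mem_and_subset (X := Y') (x := y') (U := g ⁻¹ᵁ V₀) hyV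
  letI : Algebra Γ(Y, V₀) Γ(Y', U) := (g.appLE V₀ U e).hom.toAlgebra
  have hB := (vanH_iff_HHon f hc hV c hU e).2 (hR1 U hU)
  let q := (hU.primeIdealOf ⟨y', hyU⟩).asIdeal
  have hq : (hV.primeIdealOf ⟨g y', hyV⟩).asIdeal = Ideal.comap (g.appLE V₀ U e).hom q := by
    have h : Spec.map (g.appLE V₀ U e) (hU.primeIdealOf ⟨y', hyU⟩) = hV.primeIdealOf ⟨g y', hyV⟩ := by
      refine hV.fromSpec.isOpenEmbedding.injective ?_
      rw [hV.fromSpec_primeIdealOf, ← Scheme.Hom.comp_apply, IsAffineOpen.SpecMap_appLE_fromSpec g hV hU e,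
        Scheme.Hom.comp_apply, hU.fromSpec_primeIdealOf]
    rw [← h]; rfl
  have hK : RingHom.ker (algebraMap Γ(Y, V₀) q.ResidueField) = (hV.primeIdealOf ⟨g y', hyV⟩).asIdeal := by
    rw [hq, IsScalarTower.algebraMap_eq Γ(Y, V₀) Γ(Y', U) q.ResidueField, ← RingHom.comap_ker,
      Ideal.ker_algebraMap_residueField]
    rfl
  have hp := vanH_residueField (A := Γ(Y, V₀)) _ (dim_chart f hV hd) c hO.1 _ q.ResidueField hK
    (vanH_of_algebra (A := Γ(Y, V₀)) _ (dim_chart f hV hd) c hO.1 Γ(Y', U) _ hB)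
  obtain ⟨φ, hker, hiff⟩ := vanH_iff_fiber f hV c hyV
  let p := (hV.primeIdealOf ⟨g y', hyV⟩).asIdeal
  letI : Algebra Γ(Y, V₀) (Y.residueField (g y')) := φ.hom.toAlgebra
  let j : p.ResidueField →+* Y.residueField (g y') := Ideal.ResidueField.lift p φ.hom hker.ge (fun a ha => by
    refine isUnit_iff_ne_zero.2 fun h0 => ha ?_
    have h1 : a ∈ RingHom.ker φ.hom := h0
    rwa [hker] at h1)
  letI : Algebra p.ResidueField (Y.residueField (g y')) := j.toAlgebra
  haveI : IsScalarTower Γ(Y, V₀) p.ResidueField (Y.residueField (g y')) :=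
    IsScalarTower.of_algebraMap_eq fun a => (Ideal.ResidueField.lift_algebraMap _ _ _ _ a).symm
  exact hiff.1 (vanH_of_algebra (A := Γ(Y, V₀)) _ (dim_chart f hV hd) c hO.1 p.ResidueField _ hp)

variable (f) in
/-- A neighbourhood over which `H^1` vanishes after every base change. -/
theorem exists_nhd_vanishing (y : Y) (hdim : topologicalKrullDim ↥(f.fiber y) ≤ 1)
    (hH1 : Subsingleton (Coh.HH (f.fiber y) (Coh.structureModule (f.fiber y)) 1)) :
    ∃ V : Y.Opens, y ∈ V ∧ IsAffineOpen V ∧ (∀ w ∈ V, topologicalKrullDim ↥(f ⁻¹' {w} : Set X) ≤ 1) ∧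
      ∀ {X₁ Y₁ : Scheme.{u}} (f₁ : X₁ ⟶ Y₁) (g₁' : X₁ ⟶ X) (g₁ : Y₁ ⟶ Y), IsPullback g₁' f₁ f g₁ →
        ∀ U : Y₁.Opens, IsAffineOpen U → U ≤ g₁ ⁻¹ᵁ V →
          Subsingleton (Coh.HHon X₁ (Coh.structureModule X₁) (f₁ ⁻¹ᵁ U) 1) := by
  obtain ⟨V₀, hyV, hV, hd'⟩ := VanFib13.exists_affine_nhd f y 1 (by simpa using hdim)
  have hd : ∀ w ∈ V₀, topologicalKrullDim ↥(f ⁻¹' {w} : Set X) ≤ 1 := fun w hw => by simpa using hd' w hw
  obtain ⟨c⟩ := nonempty_cov (A := Γ(Y, V₀)) (pullback.snd f hV.fromSpec)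
  have hO := M1.isCoh_structureModule (pullback f hV.fromSpec)
  have hp := vanH_prime_of_fibre f hV hd c hyV hH1
  obtain ⟨t, ht, hv⟩ := exists_vanH_away (A := Γ(Y, V₀)) _ (dim_chart f hV hd) c hO.1 hO.2 _ hp
  refine ⟨Y.basicOpen t, ?_, hV.basicOpen t, fun w hw => hd w (Y.basicOpen_le t hw),
    fun {X₁ Y₁} f₁ g₁' g₁ hc U hU hUV => ?_⟩
  · have h : hV.primeIdealOf ⟨y, hyV⟩ ∈ PrimeSpectrum.basicOpen t := ht
    rw [← hV.fromSpec_preimage_basicOpen t] at h
    have h' : hV.fromSpec (hV.primeIdealOf ⟨y, hyV⟩) ∈ Y.basicOpen t := h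
    rwa [hV.fromSpec_primeIdealOf] at h'
  · have e : U ≤ g₁ ⁻¹ᵁ V₀ := fun x hx => Y.basicOpen_le t (hUV hx)
    letI : Algebra Γ(Y, V₀) Γ(Y₁, U) := (g₁.appLE V₀ U e).hom.toAlgebra
    have hu : IsUnit (g₁.appLE V₀ U e t) := isUnit_appLE g₁ e t hUV
    let l : Localization.Away t →+* Γ(Y₁, U) := IsLocalization.Away.lift t hu
    letI : Algebra (Localization.Away t) Γ(Y₁, U) := l.toAlgebra
    haveI : IsScalarTower Γ(Y, V₀) (Localization.Away t) Γ(Y₁, U) :=
      IsScalarTower.of_algebraMap_eq fun a => (IsLocalization.Away.lift_eq t hu a).symm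
    exact (vanH_iff_HHon f hc hV c hU e).1
      (vanH_of_algebra (A := Γ(Y, V₀)) _ (dim_chart f hV hd) c hO.1 (Localization.Away t) _ hv)

end Groth.Agent.Contr18
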