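import Mathlib.AlgebraicGeometry.Morphisms.Flat
import Mathlib.AlgebraicGeometry.Morphisms.FinitePresentation
import Groth.Agent.Lib.AffGrp19.Basic

/-!
# Bijectivity of `f.app` on the opens of a part of the base
-/

set_option autoImplicit false
set_option linter.style.haveILetI false
set_option maxHeartbeats 1000000
set_option backward.isDefEq.respectTransparency false
set_option backward.isDefEq.respectTransparency.types false

universe u

open CategoryTheory CategoryTheory.Limits AlgebraicGeometry TopologicalSpace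

noncomputable section

namespace Groth.Agent.Contr18

variable {P T : Scheme.{u}} (q : P ⟶ T)

theorem app_res {A A' : T.Opens} (hle : A' ≤ A) (r : Γ(T, A)) :
    q.app A' (T.presheaf.map (homOfLE hle).op r) =
      P.presheaf.map (homOfLE (q.preimage_mono hle)).op (q.app A r) := by
  rw [← CommRingCat.comp_apply, ← CommRingCat.comp_apply, Scheme.Hom.naturality]
  rfl

/-- Bijectivity is local on the base. -/
theorem bijective_app_of_local {D : T.Opens}
    (h : ∀ U : T.Opens, U ≤ D → ∀ x ∈ U, ∃ W : T.Opens, x ∈ W ∧ W ≤ U ∧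
      Function.Bijective (q.app W))
    {V : T.Opens} (hV : V ≤ D) : Function.Bijective (q.app V) := by
  have hb := h
  have hinj : ∀ U : T.Opens, U ≤ D → Function.Injective (q.app U) := by
    intro U hU r r' hr
    choose W hxW hWU hbW using fun x : U => hb U hU x.1 x.2
    refine T.sheaf.eq_of_locally_eq' W U (fun x => homOfLE (hWU x))
      (fun y hy => Opens.mem_iSup.2 ⟨⟨y, hy⟩, hxW _⟩) r r' fun x => ?_
    refine (hbW x).1 ?_
    refine (app_res q (hWU x) r).trans ?_
    rw [hr]
    exact (app_res q (hWU x) r').symm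
  refine ⟨hinj V hV, fun t => ?_⟩
  choose W hxW hWV hbW using fun x : V => hb V hV x.1 x.2
  choose s hs using fun x : V => (hbW x).2 (P.presheaf.map (homOfLE (q.preimage_mono (hWV x))).op t)
  have hcov : V ≤ ⨆ x : V, W x := fun y hy => Opens.mem_iSup.2 ⟨⟨y, hy⟩, hxW _⟩
  have hc : TopCat.Presheaf.IsCompatible T.sheaf.1 W s := by
    intro x y
    apply hinj (W x ⊓ W y) (inf_le_left.trans ((hWV x).trans hV))
    refine (app_res q (inf_le_left : W x ⊓ W y ≤ W x) _).trans ?_
    refine Eq.trans ?_ (app_res q (inf_le_right : W x ⊓ W y ≤ W y) _).symm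
    rw [hs, hs]
    simp only [← CommRingCat.comp_apply, ← Functor.map_comp]
    rfl
  obtain ⟨r, hr, -⟩ := T.sheaf.existsUnique_gluing' W V (fun x => homOfLE (hWV x)) hcov s hc
  refine ⟨r, P.sheaf.eq_of_locally_eq' (fun x => q ⁻¹ᵁ W x) (q ⁻¹ᵁ V)
    (fun x => homOfLE (q.preimage_mono (hWV x))) ?_ _ _ fun x => ?_⟩
  · exact (q.preimage_mono hcov).trans (le_of_eq (q.preimage_iSup _))
  · refine Eq.trans ?_ (hs x)
    refine (app_res q (hWV x) r).symm.trans ?_
    exact congrArg _ (hr x)

/-- Kernel and cokernel killed by `e` give bijectivity below `D(e)`. -/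
theorem bijective_app_of_kill [IsAffine T] [QuasiCompact q] [QuasiSeparated q] (e : Γ(T, ⊤))
    (hker : ∀ a : Γ(T, ⊤), q.appTop a = 0 → e * a = 0)
    (hcok : ∀ b : Γ(P, ⊤), ∃ a, q.appTop a = q.appTop e * b) {V : T.Opens} (hV : V ≤ T.basicOpen e) :
    Function.Bijective (q.app V) := by
  haveI : CompactSpace P := QuasiCompact.compactSpace_of_compactSpace q
  haveI : QuasiSeparatedSpace P := quasiSeparatedSpace_of_quasiSeparated q
  refine bijective_app_of_local q (fun U hU x hx => ?_) hV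
  obtain ⟨h, hle, hxh⟩ := (isAffineOpen_top T).exists_basicOpen_le (V := U) ⟨x, hx⟩ trivial
  refine ⟨T.basicOpen h, hxh, hle, ?_⟩
  have hhe : T.basicOpen h ≤ T.basicOpen e := hle.trans hU
  haveI := (isAffineOpen_top T).isLocalization_basicOpen h
  let h' : Γ(P, q ⁻¹ᵁ ⊤) := q.app ⊤ h
  haveI := isLocalization_basicOpen_of_qcqs (U := (⊤ : P.Opens)) isCompact_univ isQuasiSeparated_univ (q.appTop h)
  have hP : q ⁻¹ᵁ T.basicOpen h = P.basicOpen (q.appTop h) := Scheme.preimage_basicOpen q h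
  let i := P.presheaf.map (homOfLE hP.ge).op
  let ψ : Γ(T, T.basicOpen h) ⟶ Γ(P, P.basicOpen (q.appTop h)) := q.app (T.basicOpen h) ≫ i
  have hψ : ∀ a : Γ(T, ⊤), ψ (algebraMap Γ(T, ⊤) Γ(T, T.basicOpen h) a) =
      algebraMap Γ(P, ⊤) Γ(P, P.basicOpen (q.appTop h)) (q.appTop a) := fun a => by
    change i (q.app (T.basicOpen h) (T.presheaf.map (homOfLE _).op a)) = _
    rw [app_res q (T.basicOpen_le h), ← CommRingCat.comp_apply, ← Functor.map_comp]
    rfl
  have he : IsUnit (algebraMap Γ(T, ⊤) Γ(T, T.basicOpen h) e) := by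
    have := RingedSpace.isUnit_res_basicOpen T.toRingedSpace e
    have h2 := this.map (T.presheaf.map (homOfLE hhe).op).hom
    have key : (T.presheaf.map (homOfLE hhe).op).hom (T.presheaf.map (homOfLE (T.basicOpen_le e)).op e) =
        algebraMap Γ(T, ⊤) Γ(T, T.basicOpen h) e := by
      change (T.presheaf.map (homOfLE (T.basicOpen_le e)).op ≫ T.presheaf.map (homOfLE hhe).op) e = _
      rw [← Functor.map_comp]
      rfl
    exact key ▸ h2
  have hbij : Function.Bijective ψ := by
    refine ⟨(injective_iff_map_eq_zero ψ.hom).2 fun s hs => ?_, fun σ => ?_⟩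
    · obtain ⟨n, a, ha⟩ := IsLocalization.Away.surj h s
      have h0 : algebraMap Γ(P, ⊤) Γ(P, P.basicOpen (q.appTop h)) (q.appTop a) = 0 := by
        rw [← hψ, ← ha, map_mul, hs, zero_mul]
      obtain ⟨⟨_, m, rfl⟩, hm⟩ := (IsLocalization.map_eq_zero_iff (Submonoid.powers (q.appTop h)) _ _).1 h0
      have hz : e * (h ^ m * a) = 0 := hker _ (by rw [map_mul, map_pow]; exact hm)
      have hz' := congrArg (algebraMap Γ(T, ⊤) Γ(T, T.basicOpen h)) hz
      rw [map_mul, map_mul, map_zero, map_pow, ← ha, he.mul_right_eq_zero,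
        ((IsLocalization.Away.algebraMap_isUnit h).pow m).mul_right_eq_zero,
        ((IsLocalization.Away.algebraMap_isUnit h).pow n).mul_left_eq_zero] at hz'
      exact hz'
    · obtain ⟨n, b, hb⟩ := IsLocalization.Away.surj (q.appTop h) σ
      obtain ⟨a, ha⟩ := hcok b
      have hu : IsUnit (algebraMap Γ(T, ⊤) Γ(T, T.basicOpen h) (e * h ^ n)) := by
        rw [map_mul, map_pow]
        exact he.mul ((IsLocalization.Away.algebraMap_isUnit h).pow n)
      refine ⟨algebraMap Γ(T, ⊤) Γ(T, T.basicOpen h) a * hu.unit⁻¹.1, ?_⟩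
      have hu' : IsUnit (ψ (algebraMap Γ(T, ⊤) Γ(T, T.basicOpen h) (e * h ^ n))) := hu.map ψ.hom
      refine hu'.mul_left_injective ?_
      dsimp only
      rw [← map_mul, mul_assoc, IsUnit.val_inv_mul, mul_one, hψ, hψ, ha, map_mul, map_mul, map_mul, map_pow, map_pow,
        ← hb]
      ring
  haveI : IsIso i := by
    haveI : IsIso (homOfLE hP.ge).op :=
      ⟨⟨(homOfLE hP.le).op, Subsingleton.elim _ _, Subsingleton.elim _ _⟩⟩
    infer_instance
  exact (Function.Bijective.of_comp_iff' (ConcreteCategory.bijective_of_isIso i) _).1 hbij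

/-- Bijectivity under an open base change. -/
theorem bijective_app_iff_openImmersion {P' T' : Scheme.{u}} {q' : P' ⟶ T'} {n : P' ⟶ P} {m : T' ⟶ T}
    [IsOpenImmersion m] (hc : IsPullback n q' q m) (W : T'.Opens) :
    Function.Bijective (q'.app W) ↔ Function.Bijective (q.app (m ''ᵁ W)) := by
  haveI : IsOpenImmersion n := MorphismProperty.of_isPullback hc.flip inferInstance
  have hW : m ⁻¹ᵁ (m ''ᵁ W) = W := m.preimage_image_eq W
  have hle : q ⁻¹ᵁ (m ''ᵁ W) ≤ n.opensRange := by
    intro x hx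
    obtain ⟨z, -, hz⟩ := hx
    obtain ⟨y, hy, -⟩ := Scheme.Pullback.exists_preimage_pullback x z hz.symm
    exact ⟨hc.isoPullback.inv y, by rw [← Scheme.Hom.comp_apply, hc.isoPullback_inv_fst]; exact hy⟩
  have hE : q' ⁻¹ᵁ W = n ⁻¹ᵁ (q ⁻¹ᵁ (m ''ᵁ W)) := by
    rw [← Scheme.Hom.comp_preimage, hc.w, Scheme.Hom.comp_preimage, hW]
  haveI := n.isIso_app _ hle
  haveI := m.isIso_app (m ''ᵁ W) (m.image_le_opensRange W)
  let i := P'.presheaf.map (homOfLE hE.le).op
  haveI : IsIso i := by
    haveI : IsIso (homOfLE hE.le).op := ⟨⟨(homOfLE hE.ge).op, Subsingleton.elim _ _, Subsingleton.elim _ _⟩⟩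
    infer_instance
  let j := T'.presheaf.map (homOfLE hW.ge).op
  haveI : IsIso j := by
    haveI : IsIso (homOfLE hW.ge).op := ⟨⟨(homOfLE hW.le).op, Subsingleton.elim _ _, Subsingleton.elim _ _⟩⟩
    infer_instance
  have key : (m.app (m ''ᵁ W) ≫ j) ≫ q'.app W = q.app (m ''ᵁ W) ≫ (n.app _ ≫ i) := by
    have h1 : (n ≫ q).appLE (m ''ᵁ W) (q' ⁻¹ᵁ W) (by rw [Scheme.Hom.comp_preimage]; exact hE.le) =
        (q' ≫ m).appLE (m ''ᵁ W) (q' ⁻¹ᵁ W) (by rw [Scheme.Hom.comp_preimage, hW]) := by
      congr 1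
      exact hc.w
    simp only [Scheme.Hom.appLE, Scheme.Hom.comp_app, Category.assoc] at h1
    simp only [i, j, Category.assoc, Scheme.Hom.naturality]
    exact h1.symm
  have key' : ∀ a, q'.app W ((m.app (m ''ᵁ W) ≫ j) a) = (n.app _ ≫ i) (q.app (m ''ᵁ W) a) := fun a => by
    rw [← CommRingCat.comp_apply, key]; rfl
  have hA := ConcreteCategory.bijective_of_isIso (m.app (m ''ᵁ W) ≫ j)
  have hB := ConcreteCategory.bijective_of_isIso (n.app (q ⁻¹ᵁ (m ''ᵁ W)) ≫ i)
  rw [← Function.Bijective.of_comp_iff _ hA, ← Function.Bijective.of_comp_iff' hB (q.app (m ''ᵁ W))]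
  exact iff_of_eq (congrArg Function.Bijective (funext key'))

/-- A monomorphism may be cancelled on the base of a cartesian square. -/
theorem isPullback_mono {X S S' : Scheme.{u}} (g : X ⟶ S') (ι : S' ⟶ S) [Mono ι] :
    IsPullback (𝟙 X) g (g ≫ ι) ι :=
  IsPullback.of_isLimit' ⟨Category.id_comp _⟩
    (PullbackCone.IsLimit.mk _ (fun s => s.fst) (fun s => Category.comp_id _)
      (fun s => by
        rw [← cancel_mono ι, Category.assoc]
        exact s.condition)
      fun s m h₁ _ => by simpa using h₁)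

end Groth.Agent.Contr18
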