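import Groth.Agent.Lib.ZConn5.CountFlat
import Groth.Agent.Lib.VanFib13.Vanish
import Groth.Agent.Lib.FibDim14.BaseChange

/-!
# Noetherian models of contractions over a base
-/

set_option autoImplicit false
set_option linter.style.haveILetI false
set_option maxHeartbeats 1000000
set_option backward.isDefEq.respectTransparency false
set_option backward.isDefEq.respectTransparency.types false

universe u

open CategoryTheory CategoryTheory.Limits AlgebraicGeometry TopologicalSpace

noncomputable section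

namespace Groth.Agent.Contr18

/-- A proper morphism with small fibres between finitely presented schemes, flat over the base, comes from a
noetherian base. -/
theorem exists_model {A : CommRingCat.{u}} {X Y : Scheme.{u}} (f : X ⟶ Y) (g : Y ⟶ Spec A) [CompactSpace Y]
    [QuasiSeparatedSpace Y] [LocallyOfFinitePresentation g] [IsProper f] [LocallyOfFinitePresentation f]
    [Flat (f ≫ g)] (hd : ∀ y, topologicalKrullDim ↥(f ⁻¹' {y} : Set X) ≤ 1) :
    ∃ (R₀ : CommRingCat.{u}) (_ : IsNoetherianRing R₀) (π : Spec A ⟶ Spec R₀) (X₀ Y₀ : Scheme.{u}) (f₀ : X₀ ⟶ Y₀)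
      (g₀ : Y₀ ⟶ Spec R₀) (qX : X ⟶ X₀) (qY : Y ⟶ Y₀),
      LocallyOfFiniteType g₀ ∧ IsProper f₀ ∧ (∀ y, topologicalKrullDim ↥(f₀ ⁻¹' {y} : Set X₀) ≤ 1) ∧
      Flat (f₀ ≫ g₀) ∧ IsPullback qY g g₀ π ∧ IsPullback qX f f₀ qY := by
  let c := ConsH13.approxCone A
  have hc : IsLimit c := ConsH13.isLimitApproxCone A
  let g' : Y ⟶ c.pt := g
  haveI : LocallyOfFinitePresentation g' := ‹LocallyOfFinitePresentation g›
  obtain ⟨i, Yi, v, qi, h1, h2, h3, h4⟩ := LimH13.hasModel_of_finitePresentation hc (X := Y) g'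
  haveI := h1; haveI := h2; haveI := h3
  let D := ConsH13.approxDiagram A
  haveI : ∀ j k : _, ∀ a : j ⟶ k, IsAffineHom (D.map a) := fun j k a => inferInstance
  haveI : QuasiCompact v := QuasiCompact.of_comp v (Scheme.toSpecΓ (D.obj i))
  haveI : QuasiSeparated v := (HasAffineProperty.iff_of_isAffine (P := @QuasiSeparated)).2 inferInstance
  let D₁ := Over.forget i ⋙ D
  let t₁ := Descend.overT D i
  let c₁ : Cone D₁ := c.whisker (Over.forget i)
  have hc₁ : IsLimit c₁ := (Functor.Initial.isLimitWhiskerEquiv (Over.forget i) c).symm hc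
  haveI : ∀ k, IsAffineHom (t₁.app k) := fun k => inferInstanceAs (IsAffineHom (D.map k.hom))
  have hq₁ : ∀ k, c₁.π.app k ≫ t₁.app k = c.π.app i := fun k => c.w k.hom
  let E := Descend.pbDiagram D₁ t₁ v
  let e := Descend.pbCone D₁ t₁ v c₁ hq₁ h4
  have he : IsLimit e := Descend.pbIsLimit D₁ t₁ v c₁ hq₁ h4 hc₁
  haveI : ∀ (k l : Over i) (a : k ⟶ l), IsAffineHom (E.map a) := fun k l a => Descend.pb_isAffineHom_map D₁ t₁ v a
  haveI : ∀ k, CompactSpace (E.obj k) := fun k =>
    QuasiCompact.compactSpace_of_compactSpace (pullback.fst v (t₁.app k))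
  haveI : ∀ k, QuasiSeparatedSpace (E.obj k) := fun k =>
    quasiSeparatedSpace_of_quasiSeparated (pullback.fst v (t₁.app k))
  let f' : X ⟶ e.pt := f
  haveI : IsProper f' := ‹IsProper f›
  haveI : LocallyOfFinitePresentation f' := ‹LocallyOfFinitePresentation f›
  obtain ⟨l, P, u, q, hu, hud, hq⟩ := VanFib13.exists_stage_model E e he f' 1 hd
  haveI := hu
  let vl := pullback.snd v (t₁.app l)
  have sY : IsPullback (e.π.app l) g vl (c.π.app l.left) := Descend.pbCone_isPullback D₁ t₁ v c₁ hq₁ h4 l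
  have sX : IsPullback q (f ≫ g) (u ≫ vl) (c.π.app l.left) := hq.paste_vert sY
  -- flatness at a later stage
  let i₁ := l.left
  let c₂ : Cone (Over.forget i₁ ⋙ D) := c.whisker (Over.forget i₁)
  have hc₂ : IsLimit c₂ := (Functor.Initial.isLimitWhiskerEquiv (Over.forget i₁) c).symm hc
  haveI : ∀ k, IsAffineHom ((Descend.overT D i₁).app k) := fun k => inferInstanceAs (IsAffineHom (D.map k.hom))
  have hq₂ : ∀ k, c₂.π.app k ≫ (Descend.overT D i₁).app k = c.π.app i₁ := fun k => c.w k.hom
  haveI : LocallyOfFiniteType vl := MorphismProperty.pullback_snd _ _ inferInstance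
  haveI : IsLocallyNoetherian (D.obj i₁) := by
    show IsLocallyNoetherian (Spec ((ConsH13.subFunctor A).obj i₁.unop))
    haveI : IsNoetherianRing ((ConsH13.subFunctor A).obj i₁.unop) := inferInstance
    infer_instance
  haveI : IsLocallyNoetherian (D₁.obj l) := ‹IsLocallyNoetherian (D.obj i₁)›
  haveI : IsLocallyNoetherian (E.obj l) := LocallyOfFiniteType.isLocallyNoetherian vl
  haveI : IsLocallyNoetherian P := LocallyOfFiniteType.isLocallyNoetherian u
  haveI : LocallyOfFiniteType (u ≫ vl) := inferInstance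
  haveI : LocallyOfFinitePresentation (u ≫ vl) := inferInstance
  haveI : ∀ {Z W : Scheme.{u}} (h : Z ⟶ W) [IsProper h], LocallyOfFiniteType h := fun h => inferInstance
  haveI : CompactSpace P := QuasiCompact.compactSpace_of_compactSpace u
  let fg : X ⟶ c.pt := f ≫ g
  haveI : Flat fg := ‹Flat (f ≫ g)›
  obtain ⟨k, hk⟩ := Descend19.exists_flat (f := u ≫ vl) (D := Over.forget i₁ ⋙ D) (t := Descend.overT D i₁)
    (q := c.π.app i₁) hc₂ hq₂ (g := fg) sX
  let a := D.map k.hom
  let qY : Y ⟶ pullback vl a := pullback.lift (e.π.app l) (g ≫ c.π.app k.left)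
    (by rw [Category.assoc, c.w k.hom]; exact sY.w)
  have sqY : IsPullback qY g (pullback.snd vl a) (c.π.app k.left) :=
    IsPullback.of_right (by rw [pullback.lift_fst, c.w k.hom]; exact sY) (pullback.lift_snd _ _ _)
      (IsPullback.of_hasPullback vl a)
  let g₀ := pullback.snd vl a
  let f₀ : pullback (u ≫ vl) a ⟶ pullback vl a :=
    pullback.lift (pullback.fst _ _ ≫ u) (pullback.snd _ _) (by rw [Category.assoc, pullback.condition])
  have hf₀ : IsPullback (pullback.fst (u ≫ vl) a) f₀ u (pullback.fst vl a) := by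
    refine IsPullback.of_bot ?_ (pullback.lift_fst _ _ _).symm (IsPullback.of_hasPullback vl a)
    rw [show f₀ ≫ pullback.snd vl a = pullback.snd (u ≫ vl) a from pullback.lift_snd _ _ _]
    exact IsPullback.of_hasPullback _ _
  let qX : X ⟶ pullback (u ≫ vl) a := pullback.lift q ((f ≫ g) ≫ c.π.app k.left)
    (by rw [Category.assoc _ (c.π.app k.left) a, c.w k.hom]; exact sX.w)
  have sqX : IsPullback qX (f ≫ g) (pullback.snd (u ≫ vl) a) (c.π.app k.left) :=
    IsPullback.of_right (by rw [pullback.lift_fst, c.w k.hom]; exact sX) (pullback.lift_snd _ _ _)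
      (IsPullback.of_hasPullback (u ≫ vl) a)
  have hw : qX ≫ f₀ = f ≫ qY := by
    apply pullback.hom_ext
    · simp only [f₀, qX, qY, Category.assoc, pullback.lift_fst, pullback.lift_fst_assoc]
      exact hq.w
    · simp only [f₀, qX, qY, Category.assoc, pullback.lift_snd, pullback.lift_snd_assoc]
  have sqf : IsPullback qX f f₀ qY := by
    refine IsPullback.of_bot ?_ hw sqY
    rw [show f₀ ≫ g₀ = pullback.snd (u ≫ vl) a from pullback.lift_snd _ _ _]
    exact sqX
  refine ⟨(ConsH13.subFunctor A).obj k.left.unop, inferInstance, c.π.app k.left, pullback (u ≫ vl) a, pullback vl a, f₀, g₀, qX, qY,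
    MorphismProperty.pullback_snd _ _ inferInstance, MorphismProperty.of_isPullback hf₀ inferInstance,
    fun y => ?_, ?_, sqY, sqf⟩
  · rw [← VanFib13.dim_fiber]
    refine (LimH13.forall_dim_fiber_le_iff f₀ 1).2 (fun x => ?_) y
    haveI : LocallyOfFiniteType f₀ := MorphismProperty.of_isPullback hf₀ inferInstance
    rw [FibDim14.fibreDimAt_baseChange hf₀ x]
    exact (LimH13.forall_dim_fiber_le_iff u 1).1 (fun s => by rw [VanFib13.dim_fiber]; exact hud s) _
  · rw [show f₀ ≫ g₀ = pullback.snd (u ≫ vl) a from pullback.lift_snd _ _ _]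
    exact hk

end Groth.Agent.Contr18
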