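import Groth.Agent.Lib.Contr18.Core
import Groth.Agent.Lib.Contr18.Model
import Groth.Agent.Lib.Contr18.Chart
import Groth.Agent.Lib.Contr18.Fibre
import Groth.Agent.Lib.CurveR1_10.Basic
import Groth.Agent.Lib.LiftFib11.HomLift

/-!
# A contraction on a fibre is a contraction near it
-/

set_option autoImplicit false
set_option linter.style.haveILetI false
set_option linter.unusedSectionVars false
set_option maxHeartbeats 2000000
set_option backward.isDefEq.respectTransparency false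
set_option backward.isDefEq.respectTransparency.types false

universe u

open CategoryTheory CategoryTheory.Limits AlgebraicGeometry TopologicalSpace Opposite

noncomputable section

namespace Groth.Agent.Contr18

open Groth.Agent.CohFound Groth.Agent.CBC10 Groth.Agent.FibH1_18

attribute [local instance] secA

theorem flat_sections_affine {R : Type u} [CommRing R] {X : Scheme.{u}} (a : X ⟶ Spec (CommRingCat.of R)) [Flat a]
    (W : X.Opens) (hW : IsAffineOpen W) :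
    letI : X.Over (Spec (CommRingCat.of R)) := ⟨a⟩
    Module.Flat R Γ(Coh.structureModule X, W) :=
  letI : X.Over (Spec (CommRingCat.of R)) := ⟨a⟩
  flat_secA (M1.isQCoh_structureModule X) (CurveR1_10.isFlatOver_structure a) hW

/-- A retract of the functions upstairs: the base is flat where the quasi-inverse is invertible. -/
theorem flat_basicOpen {R : Type u} [CommRing R] {X Y : Scheme.{u}} (g : Y ⟶ Spec (CommRingCat.of R)) (f : X ⟶ Y)
    [IsAffine Y] (Q : QuasiInv f) (c : Cov X) (hflat : ∀ W : X.Opens, IsAffineOpen W →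
      letI : X.Over (Spec (CommRingCat.of R)) := ⟨f ≫ g⟩
      Module.Flat R Γ(Coh.structureModule X, W))
    (hH2 : ∀ N : X.Modules, Coh.IsQCoh N → Subsingleton (Coh.HH X N 2))
    (hH1 : Subsingleton (Coh.HH X (Coh.structureModule X) 1)) : Flat ((Y.basicOpen Q.elt).ι ≫ g) := by
  letI := algΓ g
  letI := algΓ (f ≫ g)
  letI : Algebra Γ(Y, ⊤) Γ(X, ⊤) := f.appTop.hom.toAlgebra
  haveI : IsScalarTower R Γ(Y, ⊤) Γ(X, ⊤) := IsScalarTower.of_algebraMap_eq fun r => rfl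
  haveI : Module.Flat R Γ(X, ⊤) := by
    letI : X.Over (Spec (CommRingCat.of R)) := ⟨f ≫ g⟩
    haveI := flat_top (R := R) (U := c.U) c.cov c.aff hflat hH2
      ((vanT_self_iff c.cov c.aff (M1.isQCoh_structureModule X)).2 hH1)
    refine Module.Flat.of_linearEquiv (N := Γ(X, ⊤)) (M := Γ(Coh.structureModule X, (⊤ : X.Opens)))
      { toFun := fun t => t
        invFun := fun t => t
        left_inv := fun _ => rfl
        right_inv := fun _ => rfl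
        map_add' := fun _ _ => rfl
        map_smul' := fun r t => ?_ }
    rw [RingHom.id_apply, Algebra.smul_def]
    change (show Γ(X, ⊤) from Coh.toGlobal (f ≫ g) r) * t = ρ R (⊤ : X.Opens) r * (show Γ(X, ⊤) from t)
    rw [show ρ R (⊤ : X.Opens) r = Coh.toGlobal (f ≫ g) r from ConcreteCategory.congr_hom (X.presheaf.map_id (op ⊤)) _]
  let D := Y.basicOpen Q.elt
  have hD : IsAffineOpen D := (isAffineOpen_top Y).basicOpen Q.elt
  haveI : IsAffine (D : Scheme.{u}) := hD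
  haveI := (isAffineOpen_top Y).isLocalization_basicOpen Q.elt
  letI : Algebra R Γ(Y, D) := ((algebraMap Γ(Y, ⊤) Γ(Y, D)).comp (algebraMap R Γ(Y, ⊤))).toAlgebra
  haveI : IsScalarTower R Γ(Y, ⊤) Γ(Y, D) := IsScalarTower.of_algebraMap_eq fun r => rfl
  haveI : Module.Flat Γ(Y, ⊤) Γ(Y, D) := IsLocalization.flat _ (Submonoid.powers Q.elt)
  haveI : Module.Flat R (TensorProduct Γ(Y, ⊤) Γ(X, ⊤) Γ(Y, D)) := Module.Flat.trans R Γ(X, ⊤) _
  let ψ : Γ(X, ⊤) →ₗ[Γ(Y, ⊤)] Γ(Y, ⊤) :=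
    { toFun := Q.inv
      map_add' := Q.inv_add
      map_smul' := fun a b => by rw [Algebra.smul_def, RingHom.id_apply, smul_eq_mul]; exact Q.inv_smul a b }
  have hu : IsUnit (algebraMap Γ(Y, ⊤) Γ(Y, D) Q.elt) := IsLocalization.Away.algebraMap_isUnit _
  let i : Γ(Y, D) →ₗ[R] TensorProduct Γ(Y, ⊤) Γ(X, ⊤) Γ(Y, D) :=
    ((TensorProduct.mk Γ(Y, ⊤) Γ(X, ⊤) Γ(Y, D)) 1).restrictScalars R
  let r : TensorProduct Γ(Y, ⊤) Γ(X, ⊤) Γ(Y, D) →ₗ[R] Γ(Y, D) :=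
    ((LinearMap.mulLeft Γ(Y, ⊤) hu.unit⁻¹.1).comp
      ((TensorProduct.lid Γ(Y, ⊤) Γ(Y, D)).toLinearMap.comp (ψ.rTensor Γ(Y, D)))).restrictScalars R
  haveI : Module.Flat R Γ(Y, D) := Module.Flat.of_retract i r (LinearMap.ext fun a => by
    change hu.unit⁻¹.1 * (ψ 1 • a) = a
    have h1 : ψ 1 = Q.elt := by
      have h := Q.left 1
      rw [map_one, mul_one] at h
      exact h
    rw [h1, Algebra.smul_def, ← mul_assoc, hu.val_inv_mul, one_mul])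
  rw [HasRingHomProperty.iff_of_isAffine (P := @Flat)]
  have e : (D.ι ≫ g).appTop.hom.comp (Scheme.ΓSpecIso (CommRingCat.of R)).inv.hom =
      D.topIso.inv.hom.comp (algebraMap R Γ(Y, D)) := by
    rw [Scheme.Hom.comp_appTop, CommRingCat.hom_comp, RingHom.comp_assoc]
    ext x
    have key : D.ι.appTop = Y.presheaf.map (homOfLE (le_top : D ≤ ⊤)).op ≫ D.topIso.inv := by
      rw [Scheme.Opens.ι_appTop, Scheme.Opens.topIso_inv, ← Functor.map_comp]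
      rfl
    change D.ι.appTop (g.appTop ((Scheme.ΓSpecIso (CommRingCat.of R)).inv x)) = _
    rw [key]
    rfl
  have hf : (algebraMap R Γ(Y, D)).Flat := RingHom.flat_algebraMap_iff.2 inferInstance
  have h2 := RingHom.Flat.comp hf (RingHom.Flat.of_bijective
    (ConcreteCategory.bijective_of_isIso D.topIso.inv))
  rw [← e] at h2
  have h3 := RingHom.Flat.comp (RingHom.Flat.of_bijective
    (ConcreteCategory.bijective_of_isIso (Scheme.ΓSpecIso (CommRingCat.of R)).hom)) h2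
  rw [RingHom.comp_assoc, ← CommRingCat.hom_comp, Iso.hom_inv_id, CommRingCat.hom_id, RingHom.comp_id] at h3
  exact h3

/-- Near a point of a fibre on which it is a contraction, `f` is one after every base change. -/
theorem exists_good {X Y S : Scheme.{u}} (f : X ⟶ Y) (g : Y ⟶ S) [IsProper f] [LocallyOfFinitePresentation g]
    [LocallyOfFinitePresentation f] (s : S) (y : Y) (hy : g y = s) (W₀ : Y.Opens) (hyW : y ∈ W₀)
    (hflat : Flat ((f ⁻¹ᵁ W₀).ι ≫ f ≫ g)) (hdim : topologicalKrullDim ↥(f.fiber y) ≤ 1)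
    (hH1 : Subsingleton (Coh.HH (f.fiber y) (Coh.structureModule (f.fiber y)) 1))
    (hfib : ∀ U : (g.fiber s).Opens, IsIso ((MoreMor.fiberMap f g s).app U)) :
    ∃ V : Y.Opens, y ∈ V ∧ Flat (V.ι ≫ g) ∧
      ∀ {S' X' Y' : Scheme.{u}} (b : S' ⟶ S) (g' : Y' ⟶ S') (c' : X' ⟶ Y') (pY : Y' ⟶ Y) (pX : X' ⟶ X),
        IsPullback pY g' g b → IsPullback pX c' f pY → ∀ W : Y'.Opens, W ≤ pY ⁻¹ᵁ V →
          Function.Bijective (c'.app W) := by
  -- the chart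
  obtain ⟨Ω, hΩ, hsΩ, -⟩ := exists_isAffineOpen_mem_and_subset (X := S) (x := s) (U := ⊤) trivial
  obtain ⟨Vd, hyd, -, hdV⟩ := VanFib13.exists_affine_nhd f y 1 (by simpa using hdim)
  obtain ⟨W, hW, hyW', hWle⟩ := exists_isAffineOpen_mem_and_subset (X := Y) (x := y) (U := W₀ ⊓ Vd ⊓ g ⁻¹ᵁ Ω)
    ⟨⟨hyW, hyd⟩, show g y ∈ Ω from hy ▸ hsΩ⟩
  haveI : IsAffine (W : Scheme.{u}) := hW
  let f₁ := f ∣_ W
  have hsqf : IsPullback (f ⁻¹ᵁ W).ι f₁ f W.ι := (isPullback_morphismRestrict f W).flip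
  have hr : Set.range (W.ι ≫ g) ⊆ Set.range hΩ.fromSpec := by
    rintro _ ⟨z, rfl⟩
    rw [hΩ.range_fromSpec]
    exact (hWle z.2).2
  let g₁ := IsOpenImmersion.lift hΩ.fromSpec (W.ι ≫ g) hr
  have hg₁ : g₁ ≫ hΩ.fromSpec = W.ι ≫ g := IsOpenImmersion.lift_fac _ _ _
  haveI : LocallyOfFinitePresentation g₁ := by
    haveI : LocallyOfFinitePresentation (g₁ ≫ hΩ.fromSpec) := by rw [hg₁]; infer_instance
    exact MorphismProperty.of_isPullback (isPullback_mono g₁ hΩ.fromSpec) inferInstance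
  haveI : IsProper f₁ := MorphismProperty.of_isPullback hsqf inferInstance
  haveI : LocallyOfFinitePresentation f₁ := MorphismProperty.of_isPullback hsqf inferInstance
  haveI : Flat (f₁ ≫ g₁) := by
    have hle : f ⁻¹ᵁ W ≤ f ⁻¹ᵁ W₀ := f.preimage_mono fun z hz => (hWle hz).1.1
    have e : (f₁ ≫ g₁) ≫ hΩ.fromSpec = X.homOfLE hle ≫ (f ⁻¹ᵁ W₀).ι ≫ f ≫ g := by
      rw [Category.assoc, hg₁, Scheme.homOfLE_ι_assoc, ← Category.assoc, ← hsqf.w, Category.assoc]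
    haveI : Flat ((f₁ ≫ g₁) ≫ hΩ.fromSpec) := by rw [e]; infer_instance
    exact MorphismProperty.of_isPullback (isPullback_mono (f₁ ≫ g₁) hΩ.fromSpec) inferInstance
  have hd₁ : ∀ z : (W : Scheme.{u}), topologicalKrullDim ↥(f₁ ⁻¹' {z} : Set (f ⁻¹ᵁ W : Scheme.{u})) ≤ 1 := fun z => by
    rw [← VanFib13.dim_fiber]
    refine (LimH13.forall_dim_fiber_le_iff f₁ 1).2 (fun x => ?_) z
    rw [FibDim14.fibreDimAt_baseChange hsqf x]
    exact (FibGen4.dim_fiber_le_iff f (f ((f ⁻¹ᵁ W).ι x)) 1).1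
      (by rw [VanFib13.dim_fiber]; simpa using hdV _ ((hWle x.2).1.2)) _ rfl
  -- the model
  obtain ⟨R₀, hR₀, π, X₀, Y₀, f₀, g₀, qX, qY, hg₀, hf₀, hd₀, hfl₀, sqY, sqX⟩ := exists_model f₁ g₁ hd₁
  haveI := hR₀; haveI := hg₀; haveI := hf₀; haveI := hfl₀
  haveI : IsLocallyNoetherian Y₀ := LocallyOfFiniteType.isLocallyNoetherian g₀
  let y₁ : (W : Scheme.{u}) := ⟨y, hyW'⟩
  have hH1₀ : Subsingleton (Coh.HH (f₀.fiber (qY y₁)) (Coh.structureModule (f₀.fiber (qY y₁))) 1) := by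
    have h1 : Subsingleton (Coh.HH (f₁.fiber y₁) (Coh.structureModule (f₁.fiber y₁)) 1) := by
      obtain ⟨V, hyV, -, -, hV⟩ := exists_nhd_vanishing f y hdim hH1
      refine h1_fibre_of_baseChange (f := f₁) (g := (W.ι ⁻¹ᵁ V).ι) (isPullback_morphismRestrict f₁ (W.ι ⁻¹ᵁ V)).flip
        ⟨y₁, hyV⟩ ?_ fun U hU => ?_
      · rw [VanFib13.dim_fiber]; exact hd₁ _
      · exact hV _ _ _ ((isPullback_morphismRestrict f₁ (W.ι ⁻¹ᵁ V)).flip.paste_horiz hsqf) U hU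
          fun z _ => show (W.ι ⁻¹ᵁ V).ι z ∈ W.ι ⁻¹ᵁ V from z.2
    obtain ⟨V, hyV, -, -, hV⟩ := exists_nhd_vanishing f₁ y₁
      (by rw [VanFib13.dim_fiber]; exact hd₁ _) h1
    refine h1_fibre_of_baseChange (f := f₀) (g := V.ι ≫ qY)
      ((isPullback_morphismRestrict f₁ V).flip.paste_horiz sqX) ⟨y₁, hyV⟩ ?_ fun U hU => ?_
    · rw [VanFib13.dim_fiber]; exact hd₀ _
    · exact hV _ _ _ (isPullback_morphismRestrict f₁ V).flip U hU fun z _ => z.2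
  obtain ⟨V₁, hyV₁, hV₁, -, hvan⟩ := exists_nhd_vanishing f₀ (qY y₁)
    (by rw [VanFib13.dim_fiber]; exact hd₀ _) hH1₀
  haveI : IsAffine (V₁ : Scheme.{u}) := hV₁
  let f₂ := f₀ ∣_ V₁
  have hsq₂ : IsPullback (f₀ ⁻¹ᵁ V₁).ι f₂ f₀ V₁.ι := (isPullback_morphismRestrict f₀ V₁).flip
  let g₂ : (V₁ : Scheme.{u}) ⟶ Spec (CommRingCat.of R₀) := V₁.ι ≫ g₀
  haveI : IsProper f₂ := MorphismProperty.of_isPullback hsq₂ inferInstance
  haveI : IsAffineHom g₂ := inferInstance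
  haveI : IsLocallyNoetherian (V₁ : Scheme.{u}) := inferInstance
  haveI : IsNoetherianRing Γ((V₁ : Scheme.{u}), ⊤) := IsLocallyNoetherian.component_noetherian ⟨⊤, isAffineOpen_top _⟩
  haveI : Flat (f₂ ≫ g₂) := by
    rw [← Category.assoc, ← hsq₂.w, Category.assoc]; infer_instance
  obtain ⟨c⟩ := nonempty_cov (A := Γ((V₁ : Scheme.{u}), ⊤)) (f₂ ≫ (V₁ : Scheme.{u}).isoSpec.hom)
  have hd₂ : ∀ z : Spec (CommRingCat.of Γ((V₁ : Scheme.{u}), ⊤)),
      topologicalKrullDim ↥((f₂ ≫ (V₁ : Scheme.{u}).isoSpec.hom) ⁻¹' {z} : Set (f₀ ⁻¹ᵁ V₁ : Scheme.{u})) ≤ 1 := fun z => by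
    obtain ⟨w, rfl⟩ := (V₁ : Scheme.{u}).isoSpec.hom.surjective z
    have e : ((f₂ ≫ (V₁ : Scheme.{u}).isoSpec.hom) ⁻¹' {(V₁ : Scheme.{u}).isoSpec.hom w} :
        Set (f₀ ⁻¹ᵁ V₁ : Scheme.{u})) = f₂ ⁻¹' {w} := by
      ext x
      simp only [Set.mem_preimage, Set.mem_singleton_iff, Scheme.Hom.comp_apply]
      exact (V₁ : Scheme.{u}).isoSpec.hom.isOpenEmbedding.injective.eq_iff
    rw [e, ← VanFib13.dim_fiber]
    refine (LimH13.forall_dim_fiber_le_iff f₂ 1).2 (fun x => ?_) w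
    rw [FibDim14.fibreDimAt_baseChange hsq₂ x]
    exact (LimH13.forall_dim_fiber_le_iff f₀ 1).1 (fun t => by rw [VanFib13.dim_fiber]; exact hd₀ t) _
  have hH2 := FibH1_18.hH2 (A := Γ((V₁ : Scheme.{u}), ⊤)) (f₂ ≫ (V₁ : Scheme.{u}).isoSpec.hom) hd₂
  have hO : Subsingleton (Coh.HH (f₀ ⁻¹ᵁ V₁ : Scheme.{u}) (Coh.structureModule (f₀ ⁻¹ᵁ V₁ : Scheme.{u})) 1) := by
    have h := hvan f₀ (𝟙 _) (𝟙 _) (IsPullback.of_horiz_isIso ⟨by simp⟩) V₁ hV₁ le_rfl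
    exact LiftFib11.subsingleton_HH_of_iso (Scheme.Modules.restrictUnitIso (f₀ ⁻¹ᵁ V₁).ι) h
  have hflat₂ := fun W' hW' => flat_sections_affine (f₂ ≫ g₂) W' hW'
  -- back to `Y`
  let D : (W : Scheme.{u}).Opens := qY ⁻¹ᵁ V₁
  let j : (D : Scheme.{u}) ⟶ Y := D.ι ≫ W.ι
  have hjX : IsPullback ((f₁ ⁻¹ᵁ D).ι ≫ (f ⁻¹ᵁ W).ι) (f₁ ∣_ D) f j :=
    (isPullback_morphismRestrict f₁ D).flip.paste_horiz hsqf
  let g₃ : (D : Scheme.{u}) ⟶ Spec Γ(S, Ω) := D.ι ≫ g₁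
  have hg₃ : g₃ ≫ hΩ.fromSpec = j ≫ g := by simp only [g₃, j, Category.assoc, hg₁]
  let qY₃ : (D : Scheme.{u}) ⟶ V₁ := qY ∣_ V₁
  have sqY₃ : IsPullback qY₃ g₃ g₂ π := (isPullback_morphismRestrict qY V₁).paste_vert sqY
  have sqX₃ : IsPullback (qX.resLE (f₀ ⁻¹ᵁ V₁) (f₁ ⁻¹ᵁ D) (le_of_eq (by
      simp only [D, ← Scheme.Hom.comp_preimage, sqX.w]))) (f₁ ∣_ D) f₂ qY₃ := by
    refine IsPullback.of_right ?_ ?_ hsq₂
    · rw [Scheme.Hom.resLE_comp_ι]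
      rw [show qY₃ ≫ V₁.ι = D.ι ≫ qY from morphismRestrict_ι qY V₁]
      exact (isPullback_morphismRestrict f₁ D).flip.paste_horiz sqX
    · rw [← cancel_mono V₁.ι, Category.assoc, Category.assoc, show qY₃ ≫ V₁.ι = D.ι ≫ qY from morphismRestrict_ι qY V₁,
        show f₂ ≫ V₁.ι = (f₀ ⁻¹ᵁ V₁).ι ≫ f₀ from morphismRestrict_ι f₀ V₁, Scheme.Hom.resLE_comp_ι_assoc,
        ← Category.assoc (f₁ ∣_ D), morphismRestrict_ι, Category.assoc, sqX.w]
  -- the fibre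
  have hs : Set.range (S.fromSpecResidueField s) ⊆ Set.range hΩ.fromSpec := by
    rw [hΩ.range_fromSpec, Scheme.range_fromSpecResidueField]
    simpa using hsΩ
  let σ := IsOpenImmersion.lift hΩ.fromSpec (S.fromSpecResidueField s) hs
  obtain ⟨P, Q, fk, pP, gP, pQ, m, n, hm, hP, hQ, hn, -, -⟩ := exists_chart_square hjX hg₃
    (IsPullback.of_hasPullback g (S.fromSpecResidueField s)) (isPullback_fiberMap f g s) (𝟙 _) σ
    (by rw [Category.id_comp]; exact IsOpenImmersion.lift_fac _ _ _)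
  haveI := hm
  let φ : R₀ ⟶ S.residueField s := Spec.preimage (σ ≫ π)
  letI : Algebra R₀ (S.residueField s) := φ.hom.toAlgebra
  have hY₂ : IsPullback (pP ≫ qY₃) gP g₂ (Spec.map (CommRingCat.ofHom (algebraMap R₀ (S.residueField s)))) := by
    change IsPullback (pP ≫ qY₃) gP g₂ (Spec.map φ)
    rw [Spec.map_preimage]
    exact hP.paste_horiz sqY₃
  have hX₂ := hQ.paste_horiz sqX₃
  have hbij : Function.Bijective fk.appTop := by
    haveI := hfib (m ''ᵁ ⊤)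
    exact (bijective_app_iff_openImmersion _ hn ⊤).2 (ConcreteCategory.bijective_of_isIso _)
  let y₂ : (V₁ : Scheme.{u}) := ⟨qY y₁, hyV₁⟩
  let q : Ideal Γ((V₁ : Scheme.{u}), ⊤) := ((V₁ : Scheme.{u}).isoSpec.hom y₂).asIdeal
  have hmem : ∀ a : Γ((V₁ : Scheme.{u}), ⊤), a ∉ q ↔ y₂ ∈ (V₁ : Scheme.{u}).basicOpen a := fun a => by
    rw [← (V₁ : Scheme.{u}).toSpecΓ_preimage_basicOpen a]
    exact Iff.rfl
  have hq : q.comap (Coh.toGlobal g₂) = RingHom.ker (algebraMap R₀ (S.residueField s)) := by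
    have hpt : g₂ y₂ = Spec.map φ (IsLocalRing.closedPoint (S.residueField s)) := by
      rw [Spec.map_preimage]
      have e : σ (IsLocalRing.closedPoint (S.residueField s)) = g₁ y₁ := by
        refine hΩ.fromSpec.isOpenEmbedding.injective ?_
        rw [← Scheme.Hom.comp_apply, ← Scheme.Hom.comp_apply, hg₁, IsOpenImmersion.lift_fac,
          Scheme.fromSpecResidueField_apply]
        exact hy.symm
      rw [Scheme.Hom.comp_apply σ π, e, ← Scheme.Hom.comp_apply, ← sqY.w]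
      rfl
    ext r
    have h1 : RingHom.ker (algebraMap R₀ (S.residueField s)) = (g₂ y₂).asIdeal := by
      rw [hpt, RingHom.ker_eq_comap_bot]
      change _ = Ideal.comap _ (IsLocalRing.maximalIdeal (S.residueField s))
      rw [IsLocalRing.maximalIdeal_eq_bot]; rfl
    rw [h1, Ideal.mem_comap, ← not_iff_not, hmem]
    change y₂ ∈ (V₁ : Scheme.{u}).basicOpen (g₂.app ⊤ ((Scheme.ΓSpecIso (CommRingCat.of R₀)).inv r)) ↔ _
    rw [← Scheme.preimage_basicOpen, basicOpen_eq_of_affine']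
    simp
    exact PrimeSpectrum.mem_basicOpen r _
  haveI : q.IsPrime := ((V₁ : Scheme.{u}).isoSpec.hom y₂).isPrime
  obtain ⟨Qi, hQi⟩ := exists_quasiInv (R' := ↑(S.residueField s)) g₂ f₂ hY₂ hX₂ c hflat₂ hH2 hO q hq hbij (Field.toIsField _)
  -- base change
  let D₂ : (V₁ : Scheme.{u}).Opens := (V₁ : Scheme.{u}).basicOpen Qi.elt
  refine ⟨j ''ᵁ (qY₃ ⁻¹ᵁ D₂), ⟨⟨y₁, hyV₁⟩, (show qY₃ ⟨y₁, hyV₁⟩ ∈ D₂ by
      rw [show qY₃ ⟨y₁, hyV₁⟩ = y₂ from Subtype.ext (morphismRestrict_base_coe qY V₁ _)]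
      exact (hmem _).1 hQi), rfl⟩, ?_, ?_⟩
  · haveI : Flat (D₂.ι ≫ g₂) := by
      exact flat_basicOpen g₂ f₂ Qi c hflat₂ hH2 hO
    have hfl : Flat ((qY₃ ⁻¹ᵁ D₂).ι ≫ g₃) :=
      MorphismProperty.of_isPullback ((isPullback_morphismRestrict qY₃ D₂).paste_vert sqY₃) inferInstance
    have e : (j ''ᵁ (qY₃ ⁻¹ᵁ D₂)).ι ≫ g =
        (Scheme.Hom.isoImage j (qY₃ ⁻¹ᵁ D₂)).inv ≫ ((qY₃ ⁻¹ᵁ D₂).ι ≫ g₃) ≫ hΩ.fromSpec := by
      rw [Category.assoc, hg₃, ← Scheme.Hom.isoImage_inv_ι j (qY₃ ⁻¹ᵁ D₂), Category.assoc, Category.assoc]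
    rw [e]
    infer_instance
  intro S' X' Y' b g' c' pY pX hY' hX' W' hW'
  refine bijective_app_of_local c' (D := pY ⁻¹ᵁ (j ''ᵁ (qY₃ ⁻¹ᵁ D₂))) (fun U hU z hz => ?_) hW'
  have hzΩ : g' z ∈ b ⁻¹ᵁ Ω := by
    obtain ⟨w, -, hw⟩ := hU hz
    change b (g' z) ∈ Ω
    have e : b (g' z) = hΩ.fromSpec (g₃ w) := by
      rw [← Scheme.Hom.comp_apply g' b, ← hY'.w, Scheme.Hom.comp_apply, ← Scheme.Hom.comp_apply g₃, hg₃,
        Scheme.Hom.comp_apply]
      exact congrArg _ hw.symm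
    rw [e, ← SetLike.mem_coe, ← hΩ.range_fromSpec]
    exact ⟨_, rfl⟩
  obtain ⟨T, hT, hzT, hTle⟩ := exists_isAffineOpen_mem_and_subset (X := S') (x := g' z) (U := b ⁻¹ᵁ Ω) hzΩ
  have hrT : Set.range (hT.fromSpec ≫ b) ⊆ Set.range hΩ.fromSpec := by
    rintro _ ⟨t, rfl⟩
    rw [hΩ.range_fromSpec]
    exact hTle (hT.range_fromSpec.le ⟨t, rfl⟩)
  let σT := IsOpenImmersion.lift hΩ.fromSpec (hT.fromSpec ≫ b) hrT
  obtain ⟨P, Q, fk, pP, gP, pQ, m, n, hm, hP, hQ, hn, hmY, hmr⟩ := exists_chart_square hjX hg₃ hY' hX'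
    hT.fromSpec σT (IsOpenImmersion.lift_fac _ _ _)
  haveI := hm
  let ψ : R₀ ⟶ Γ(S', T) := Spec.preimage (σT ≫ π)
  letI : Algebra R₀ Γ(S', T) := ψ.hom.toAlgebra
  have hY₂ : IsPullback (pP ≫ qY₃) gP g₂ (Spec.map (CommRingCat.ofHom (algebraMap R₀ Γ(S', T)))) := by
    change IsPullback (pP ≫ qY₃) gP g₂ (Spec.map ψ)
    rw [Spec.map_preimage]
    exact hP.paste_horiz sqY₃
  have hX₂ := hQ.paste_horiz sqX₃
  haveI : IsAffine P := IsAffine.of_isPullback hY₂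
  haveI : IsProper fk := MorphismProperty.of_isPullback hX₂ inferInstance
  obtain ⟨hker, hcok⟩ := quasiInv_baseChange g₂ f₂ hY₂ hX₂ Qi c hflat₂ hH2 hO
  obtain ⟨z', rfl⟩ := hmr z (by obtain ⟨w, -, hw⟩ := hU hz; exact ⟨w, hw⟩) (hT.range_fromSpec.ge hzT)
  refine ⟨m ''ᵁ (m ⁻¹ᵁ U), ⟨z', hz, rfl⟩, m.image_preimage_le U, ?_⟩
  refine (bijective_app_iff_openImmersion _ hn _).1 (bijective_app_of_kill fk ((pP ≫ qY₃).appTop Qi.elt) hker hcok ?_)
  intro w hw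
  have hw' : pY (m w) ∈ j ''ᵁ (qY₃ ⁻¹ᵁ D₂) := hU hw
  rw [← Scheme.Hom.comp_apply, hmY, Scheme.Hom.comp_apply] at hw'
  obtain ⟨w', hw'D, hw'e⟩ := hw'
  rw [j.isOpenEmbedding.injective hw'e] at hw'D
  rw [show (pP ≫ qY₃).appTop Qi.elt = (pP ≫ qY₃).app ⊤ Qi.elt from rfl, ← Scheme.preimage_basicOpen]
  exact hw'D

end Groth.Agent.Contr18
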